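import Cfsg.Agent.Lib.Char.MEleven.Index

/-!
# Transitive groups of degree eleven with the local structure of `M₁₁`
-/

set_option autoImplicit false
set_option linter.all false

open Subgroup

namespace CfsgLib.Char.MEleven

open CfsgLib.Char.GLThreeCent CfsgLib.Char.LThreeThree

/-- The translation. -/
def cycEleven : Equiv.Perm (Fin 11) := ⟨fun i => i + 1, fun i => i - 1, by decide, by decide⟩

/-- The standard element of order four. -/
def quadEleven : Equiv.Perm (Fin 11) :=
  ⟨fun i => ![0, 1, 6, 9, 5, 3, 10, 2, 8, 4, 7] i, fun i => ![0, 1, 7, 5, 9, 4, 2, 10, 8, 3, 6] i,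
    by decide, by decide⟩

/-- The standard group of degree eleven. -/
def stdEleven : Subgroup (Equiv.Perm (Fin 11)) := closure {cycEleven, quadEleven}

/-- The candidate elements of order four. -/
def candEleven (a b : Fin 11) (i : Fin 11) : Fin 11 :=
  ![0, a, b, 9 * a, 5 * a, 3 * a, 9 * b, 4 * b, 5 * b, 4 * a, 3 * b] i

/-- The words separating the other candidates. -/
def wordsEleven : List (List Bool) :=
  [[false, true], [false, false, true], [false, false, false, true], [false, true, true, true],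
    [false, true, false, true, true], [false, false, true, false, true], [false, false, false, false, true],
    [false, false, false, false, false, true], [false, false, false, true, true, true],
    [false, false, false, true, false, true], [false, false, true, false, true, true],
    [false, false, false, false, true, false, true]]

/-- Evaluation of a word at a point. -/
def evalWord (w : Fin 11 → Fin 11) (l : List Bool) (i : Fin 11) : Fin 11 :=
  l.foldr (fun c j => if c then w j else j + 1) i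

/-- Seven steps of a word. -/
def evalSeven (w : Fin 11 → Fin 11) (l : List Bool) (i : Fin 11) : Fin 11 :=
  evalWord w l (evalWord w l (evalWord w l (evalWord w l (evalWord w l (evalWord w l (evalWord w l i))))))

theorem candidates : ∀ a b : Fin 11,
    (∀ i, candEleven a b (candEleven a b (candEleven a b (candEleven a b i))) = i) →
    (∀ i, candEleven a b i = 0 → i = 0) →
    (∃ c : Fin 11, c ≠ 0 ∧ ∀ i, candEleven a b (c * i) = c * quadEleven i) ∨
    ∃ l ∈ wordsEleven, ∃ i, evalWord (candEleven a b) l i ≠ i ∧ evalSeven (candEleven a b) l i = i := by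
  decide +kernel

theorem std_orders : cycEleven ^ 11 = 1 ∧ cycEleven ≠ 1 ∧
    (cycEleven * cycEleven * quadEleven) ^ 8 = 1 ∧ (cycEleven * cycEleven * quadEleven) ^ 4 ≠ 1 ∧
    (cycEleven * quadEleven * quadEleven) ^ 3 = 1 ∧ cycEleven * quadEleven * quadEleven ≠ 1 ∧
    (cycEleven * cycEleven * cycEleven * quadEleven) ^ 5 = 1 ∧ cycEleven * cycEleven * cycEleven * quadEleven ≠ 1 := by
  decide +kernel

theorem mult_facts : ∀ c : Fin 11, c ≠ 0 → ∃ d : Fin 11, (∀ i, c * (d * i) = i ∧ d * (c * i) = i) := by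
  decide +kernel

theorem three_cand : ∀ a b i : Fin 11, candEleven a b (3 * i) = 9 * candEleven a b i := by decide +kernel

theorem cyc_pow : ∀ c i : Fin 11, (cycEleven ^ c.val) (c * i) = c * (cycEleven i) := by decide +kernel

theorem three_fix : ∀ i : Fin 11, 3 * i = i → i = 0 := by decide +kernel

theorem std_dvd : 1320 ∣ Nat.card stdEleven := by
  haveI : Fact (Nat.Prime 11) := ⟨by norm_num⟩
  haveI : Fact (Nat.Prime 3) := ⟨Nat.prime_three⟩
  haveI : Fact (Nat.Prime 5) := ⟨by norm_num⟩
  obtain ⟨h1, h1', h2, h2', h3, h3', h4, h4'⟩ := std_orders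
  have hX : cycEleven ∈ stdEleven := subset_closure (by simp)
  have hW : quadEleven ∈ stdEleven := subset_closure (by simp)
  have a : 11 ∣ Nat.card stdEleven := by
    have := stdEleven.orderOf_dvd_natCard hX
    rwa [orderOf_eq_prime h1 h1'] at this
  have b : 8 ∣ Nat.card stdEleven := by
    haveI : Fact (Nat.Prime 2) := ⟨Nat.prime_two⟩
    have := stdEleven.orderOf_dvd_natCard (mul_mem (mul_mem hX hX) hW)
    rwa [orderOf_eq_prime_pow (p := 2) (n := 2) (by simpa using h2') (by simpa using h2)] at this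
  have c : 3 ∣ Nat.card stdEleven := by
    have := stdEleven.orderOf_dvd_natCard (mul_mem (mul_mem hX hW) hW)
    rwa [orderOf_eq_prime h3 h3'] at this
  have d : 5 ∣ Nat.card stdEleven := by
    have := stdEleven.orderOf_dvd_natCard (mul_mem (mul_mem (mul_mem hX hX) hX) hW)
    rwa [orderOf_eq_prime h4 h4'] at this
  exact Nat.Coprime.mul_dvd_of_dvd_of_dvd (by norm_num : Nat.Coprime 120 11)
    (Nat.Coprime.mul_dvd_of_dvd_of_dvd (by norm_num : Nat.Coprime 24 5)
      (Nat.Coprime.mul_dvd_of_dvd_of_dvd (by norm_num : Nat.Coprime 8 3) b c) d) a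

variable {G : Type*} [Group G] [Finite G] {t : G} {el : Fin 48 → G}

/-- The permutation group of degree eleven. -/
theorem MHyp.iso_std (h : MHyp t el) : Nonempty (G ≃* stdEleven) := by
  classical
  haveI : Fact (Nat.Prime 11) := ⟨by norm_num⟩
  haveI : Fact (Nat.Prime 5) := ⟨by norm_num⟩
  haveI := h.simple
  haveI : Fintype G := Fintype.ofFinite G
  obtain ⟨K, hK⟩ := h.exists_index_eleven
  haveI : Fintype (G ⧸ K) := Fintype.ofFinite _
  have hcard : Fintype.card (G ⧸ K) = 11 := by rw [← Nat.card_eq_fintype_card]; exact hK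
  have hcore : ∀ g : G, (∀ q : G ⧸ K, g • q = q) → g = 1 := by
    intro g hg
    have hne : K.normalCore ≠ ⊤ := fun e => by
      have : K = ⊤ := top_le_iff.1 (e ▸ K.normalCore_le)
      rw [this, index_top] at hK; norm_num at hK
    have hb := (K.normalCore_normal.eq_bot_or_eq_top).resolve_right hne
    have hm : g ∈ (MulAction.toPermHom G (G ⧸ K)).ker := MonoidHom.mem_ker.2 (Equiv.ext hg)
    rw [← normalCore_eq_ker, hb, mem_bot] at hm
    exact hm
  -- `x` of order eleven and `y` of order five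
  obtain ⟨x, hx⟩ := exists_prime_orderOf_dvd_card' (G := G) 11 (by rw [h.card]; norm_num)
  obtain ⟨hCx, hNx⟩ := h.cent_eleven hx
  obtain ⟨⟨y₀, hy₀N⟩, hy₀⟩ := exists_prime_orderOf_dvd_card'
    (G := normalizer ((zpowers x : Subgroup G) : Set G)) 5 (by rw [hNx]; norm_num)
  rw [Subgroup.orderOf_mk] at hy₀
  obtain ⟨k, hk⟩ := (isOfFinOrder_of_finite x).mem_powers_iff_mem_zpowers.2
    ((mem_normalizer_iff.1 hy₀N x).1 (mem_zpowers x))
  have hk' : x ^ k = y₀ * x * y₀⁻¹ := hk
  have hpowk : ∀ m : ℕ, y₀ ^ m * x * (y₀ ^ m)⁻¹ = x ^ (k ^ m) := by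
    intro m
    induction m with
    | zero => simp
    | succ m ih =>
      rw [pow_succ' y₀, mul_inv_rev, show y₀ * y₀ ^ m * x * ((y₀ ^ m)⁻¹ * y₀⁻¹) = y₀ * (y₀ ^ m * x * (y₀ ^ m)⁻¹) * y₀⁻¹
        by group, ih, ← conj_pow, ← hk', ← pow_mul, ← pow_succ']
  obtain ⟨m, hm, hm5⟩ : ∃ m : ℕ, k ^ m % 11 = 3 ∧ ¬ 5 ∣ m := by
    have h5 := hpowk 5
    rw [← hy₀, pow_orderOf_eq_one, one_mul, inv_one, mul_one] at h5
    nth_rewrite 1 [← pow_one x] at h5
    rw [pow_eq_pow_iff_modEq, hx, Nat.ModEq, hy₀, Nat.pow_mod] at h5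
    have hk1 : k % 11 ≠ 1 := by
      intro e
      rw [← pow_mod_orderOf, hx, e, pow_one, eq_comm, mul_inv_eq_iff_eq_mul] at hk'
      have hc : y₀ ∈ centralizer ({x} : Set G) := mem_centralizer_singleton_iff.2 hk'
      have := (centralizer ({x} : Set G)).orderOf_dvd_natCard hc
      rw [hy₀, hCx] at this
      norm_num at this
    have key : ∀ K : Fin 11, 1 % 11 = K.val ^ 5 % 11 → K.val ≠ 1 → ∃ M : Fin 5, K.val ^ M.val % 11 = 3 ∧ M.val ≠ 0 := by
      decide +kernel
    obtain ⟨M, hM, hM0⟩ := key ⟨k % 11, Nat.mod_lt _ (by norm_num)⟩ h5 hk1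
    exact ⟨M.val, by rw [Nat.pow_mod]; exact hM, fun hd => by have := M.isLt; omega⟩
  set y := y₀ ^ m with hy
  have hyo : orderOf y = 5 := by
    rw [hy, Nat.Coprime.orderOf_pow, hy₀]
    rw [hy₀]; exact (show Nat.Prime 5 by norm_num).coprime_iff_not_dvd.2 hm5
  have hyx : y * x * y⁻¹ = x ^ 3 := by rw [hpowk, ← pow_mod_orderOf, hx, hm]
  -- labelling
  have hsub := IsPGroup.of_card (p := 5) (n := 1) (G := zpowers y) (by rw [Nat.card_zpowers, hyo, pow_one])
  obtain ⟨p₀, hp₀⟩ := hsub.nonempty_fixed_point_of_prime_not_dvd_card (G ⧸ K)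
    (by rw [Nat.card_eq_fintype_card, hcard]; norm_num)
  have hyp₀ : y • p₀ = p₀ := hp₀ ⟨y, mem_zpowers y⟩
  have hfree : ∀ q : G ⧸ K, x • q ≠ q := by
    intro q₁ hq₁
    have hx1 : x ≠ 1 := fun e => by rw [e, orderOf_one] at hx; norm_num at hx
    obtain ⟨q₂, hq₂⟩ : ∃ q, x • q ≠ q := by
      by_contra hcon
      push Not at hcon
      exact hx1 (hcore x hcon)
    have hper : Function.minimalPeriod (x • ·) q₂ = 11 := by
      have hd : Function.minimalPeriod (x • ·) q₂ ∣ 11 := by
        rw [← hx]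
        refine Function.IsPeriodicPt.minimalPeriod_dvd ?_
        show ((x • ·)^[orderOf x]) q₂ = q₂
        rw [smul_iterate, pow_orderOf_eq_one]; exact one_smul _ _
      exact ((Nat.dvd_prime (by norm_num)).1 hd).resolve_left fun e =>
        hq₂ (Function.minimalPeriod_eq_one_iff_isFixedPt.1 e)
    let f : Fin 11 → G ⧸ K := fun i => x ^ i.val • q₂
    have hinj : Function.Injective f := fun i j e => by
      have := (Function.iterate_eq_iterate_iff_of_lt_minimalPeriod (f := (x • ·)) (x := q₂) (m := i.val) (n := j.val)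
        (by rw [hper]; exact i.isLt) (by rw [hper]; exact j.isLt)).1 (by simpa [smul_iterate] using e)
      exact Fin.ext this
    obtain ⟨-, hs⟩ := (Fintype.bijective_iff_injective_and_card f).2 ⟨hinj, by rw [Fintype.card_fin, hcard]⟩
    obtain ⟨i, rfl⟩ := hs q₁
    refine hq₂ (MulAction.injective (x ^ i.val) ?_)
    show x ^ i.val • x • q₂ = x ^ i.val • q₂
    rw [smul_smul, ← pow_succ, pow_succ', mul_smul]
    exact hq₁
  have hpow11 : ∀ a b : ℕ, a % 11 = b % 11 → x ^ a • p₀ = x ^ b • p₀ := fun a b e => by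
    rw [← pow_mod_orderOf x a, ← pow_mod_orderOf x b, hx, e]
  let f : Fin 11 → G ⧸ K := fun i => x ^ i.val • p₀
  have hinj : Function.Injective f := by
    have hper : Function.minimalPeriod (x • ·) p₀ = 11 := by
      have hd : Function.minimalPeriod (x • ·) p₀ ∣ 11 := by
        rw [← hx]
        refine Function.IsPeriodicPt.minimalPeriod_dvd ?_
        show ((x • ·)^[orderOf x]) p₀ = p₀
        rw [smul_iterate, pow_orderOf_eq_one]; exact one_smul _ _
      exact ((Nat.dvd_prime (by norm_num)).1 hd).resolve_left fun e =>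
        hfree p₀ (Function.minimalPeriod_eq_one_iff_isFixedPt.1 e)
    intro i j e
    exact Fin.ext ((Function.iterate_eq_iterate_iff_of_lt_minimalPeriod (f := (x • ·)) (x := p₀) (m := i.val)
      (n := j.val) (by rw [hper]; exact i.isLt) (by rw [hper]; exact j.isLt)).1 (by simpa [smul_iterate] using e))
  let φ : Fin 11 ≃ G ⧸ K := Equiv.ofBijective f ((Fintype.bijective_iff_injective_and_card f).2
    ⟨hinj, by rw [Fintype.card_fin, hcard]⟩)
  have hφ : ∀ i, φ i = x ^ i.val • p₀ := fun i => rfl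
  have hyφ : ∀ i, y • φ i = φ (3 * i) := by
    intro i
    rw [hφ, hφ, smul_smul, show y * x ^ i.val = (y * x ^ i.val * y⁻¹) * y by group, ← conj_pow, hyx, mul_smul, hyp₀,
      ← pow_mul]
    refine hpow11 _ _ ?_
    simp [Fin.val_mul]
  -- `w` inducing the square
  obtain ⟨hCy, hNy⟩ := h.cent_five hyo
  set N := normalizer ((zpowers y : Subgroup G) : Set G) with hN
  have hres : ∀ u : N, ∃ j : Fin 5, (u : G) * y * (u : G)⁻¹ = y ^ j.val ∧ j ≠ 0 := by
    intro u
    obtain ⟨j, hj⟩ := (isOfFinOrder_of_finite y).mem_powers_iff_mem_zpowers.2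
      ((mem_normalizer_iff.1 u.2 y).1 (mem_zpowers y))
    have hj' : y ^ j = (u : G) * y * (u : G)⁻¹ := hj
    refine ⟨⟨j % 5, Nat.mod_lt _ (by norm_num)⟩, ?_, fun e => ?_⟩
    · rw [← hj', ← pow_mod_orderOf y j, hyo]
    · have e' : j % 5 = 0 := congrArg Fin.val e
      rw [← pow_mod_orderOf y j, hyo, e', pow_zero, eq_comm, conj_eq_one_iff] at hj'
      rw [hj', orderOf_one] at hyo; norm_num at hyo
  choose jf hjf hjf0 using hres
  obtain ⟨u, hu⟩ : ∃ u : N, jf u = 2 := by
    by_contra hcon
    push Not at hcon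
    let S := {j : Fin 5 // j ≠ 0 ∧ j ≠ 2}
    let F : N → S := fun u => ⟨jf u, hjf0 u, hcon u⟩
    have hfib : ∀ s : S, (Finset.univ.filter fun u : N => F u = s).card ≤ 5 := by
      intro s
      by_cases he : ∃ r, F r = s
      · obtain ⟨r, hr⟩ := he
        refine le_of_le_of_eq ?_ (Nat.card_eq_fintype_card.symm.trans hCy)
        rw [← Fintype.card_subtype]
        refine Fintype.card_le_of_injective (fun u => (⟨(r : G)⁻¹ * u.1, mem_centralizer_singleton_iff.2 ?_⟩ :
          centralizer ({y} : Set G))) fun a b e => Subtype.ext (Subtype.ext (mul_left_cancel (congrArg Subtype.val e)))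
        have e1 := hjf u.1
        rw [show jf u.1 = jf r from congrArg Subtype.val (u.2.trans hr.symm), ← hjf r] at e1
        calc (r : G)⁻¹ * (u.1 : G) * y = (r : G)⁻¹ * ((u.1 : G) * y * (u.1 : G)⁻¹) * u.1 := by group
          _ = y * ((r : G)⁻¹ * u.1) := by rw [e1]; group
      · rw [Finset.filter_eq_empty_iff.2 fun u _ e => he ⟨u, e⟩]; simp
    have h20 := Finset.card_le_mul_card_image_of_maps_to (s := (Finset.univ : Finset N)) (t := (Finset.univ : Finset S))
      (f := F) (fun _ _ => Finset.mem_univ _) 5 fun s _ => hfib s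
    rw [Finset.card_univ, Finset.card_univ, ← Nat.card_eq_fintype_card, hNy,
      show Fintype.card S = 3 from by decide] at h20
    omega
  set w := (u : G) ^ 5 with hw
  have hwy : w * y * w⁻¹ = y ^ 2 := by
    have h2 : (u : G) * y * (u : G)⁻¹ = y ^ 2 := by rw [hjf u, hu]; rfl
    have hit : ∀ m : ℕ, (u : G) ^ m * y * ((u : G) ^ m)⁻¹ = y ^ (2 ^ m) := by
      intro m
      induction m with
      | zero => simp
      | succ m ih =>
        rw [pow_succ' (u : G), mul_inv_rev, show (u : G) * (u : G) ^ m * y * (((u : G) ^ m)⁻¹ * (u : G)⁻¹) =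
          (u : G) * ((u : G) ^ m * y * ((u : G) ^ m)⁻¹) * (u : G)⁻¹ by group, ih, ← conj_pow, h2, ← pow_mul, ← pow_succ']
    rw [hw, hit, ← pow_mod_orderOf, hyo, show 2 ^ 5 % 5 = 2 from rfl]
  have hw4 : w ^ 4 = 1 := by
    rw [hw, ← pow_mul]
    have := congrArg Subtype.val (pow_card_eq_one' (x := u))
    rwa [hNy, SubmonoidClass.coe_pow] at this
  -- coordinates
  let ψ : G →* Equiv.Perm (Fin 11) :=
    (Equiv.permCongrHom φ.symm).toMonoidHom.comp (MulAction.toPermHom G (G ⧸ K))
  have hψ : ∀ g i, φ (ψ g i) = g • φ i := fun g i => by simp [ψ, Equiv.permCongr_apply]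
  have hψinj : Function.Injective ψ := (injective_iff_map_eq_one ψ).2 fun g hg => hcore g fun q => by
    obtain ⟨i, rfl⟩ := φ.surjective q
    rw [← hψ, hg, Equiv.Perm.one_apply]
  have hψx : ψ x = cycEleven := Equiv.ext fun i => φ.injective (by
    rw [hψ, hφ, hφ, smul_smul, ← pow_succ']
    refine hpow11 _ _ ?_
    show (i.val + 1) % 11 = (i + 1 : Fin 11).val % 11
    rw [Fin.val_add]; simp)
  have hψy : ∀ i, ψ y i = 3 * i := fun i => φ.injective (by rw [hψ, hyφ])
  have hw0 : ψ w 0 = 0 := by
    refine three_fix _ ?_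
    rw [← hψy]
    refine φ.injective ?_
    rw [hψ, hψ, smul_smul]
    have h3 : y * w = w * y ^ 3 := by
      have h32 : w * y ^ 3 * w⁻¹ = y := by
        rw [← conj_pow, hwy, ← pow_mul, ← pow_mod_orderOf, hyo, pow_one]
      nth_rewrite 1 [← h32]
      group
    rw [h3, mul_smul, show φ 0 = p₀ by rw [hφ, Fin.val_zero, pow_zero]; exact one_smul _ _, pow_succ, pow_two, mul_smul, mul_smul, hyp₀, hyp₀, hyp₀]
  have hw3 : ∀ i, ψ w (3 * i) = 9 * ψ w i := by
    intro i
    rw [← hψy, ← Equiv.Perm.mul_apply, ← map_mul, show w * y = y ^ 2 * w by rw [← hwy]; group, pow_two, map_mul,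
      map_mul, Equiv.Perm.mul_apply, Equiv.Perm.mul_apply, hψy, hψy, ← mul_assoc]
    rfl
  set a := ψ w 1
  set b := ψ w 2
  have hcand : ∀ i, ψ w i = candEleven a b i := by
    have e3 : ψ w 3 = 9 * a := hw3 1
    have e9 : ψ w 9 = 9 * (9 * a) := by rw [← e3]; exact hw3 3
    have e5 : ψ w 5 = 9 * (9 * (9 * a)) := by rw [← e9]; exact hw3 9
    have e4 : ψ w 4 = 9 * (9 * (9 * (9 * a))) := by rw [← e5]; exact hw3 5
    have e6 : ψ w 6 = 9 * b := hw3 2
    have e7 : ψ w 7 = 9 * (9 * b) := by rw [← e6]; exact hw3 6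
    have e10 : ψ w 10 = 9 * (9 * (9 * b)) := by rw [← e7]; exact hw3 7
    have e8 : ψ w 8 = 9 * (9 * (9 * (9 * b))) := by rw [← e10]; exact hw3 10
    simp only [← mul_assoc] at e9 e5 e4 e7 e10 e8
    intro i
    fin_cases i
    exacts [hw0, rfl, rfl, e3, e4, e5, e6, e7, e8, e9, e10]
  have hiter : ∀ i, candEleven a b (candEleven a b (candEleven a b (candEleven a b i))) = i := fun i => by
    rw [← hcand, ← hcand, ← hcand, ← hcand]
    have := congrArg (fun σ : Equiv.Perm (Fin 11) => σ i) (congrArg ψ hw4)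
    simpa [map_pow, pow_succ, Equiv.Perm.mul_apply] using this
  have hzero : ∀ i, candEleven a b i = 0 → i = 0 := fun i hi => (ψ w).injective (by rw [hcand, hi, hw0])
  rcases candidates a b hiter hzero with ⟨c, hc0, hc⟩ | ⟨l, -, i, hne, h7⟩
  swap
  · exfalso
    let g : G := (l.map fun z => if z then w else x).prod
    have hev : ∀ (l : List Bool) i, ψ (l.map fun z => if z then w else x).prod i = evalWord (candEleven a b) l i := by
      intro l
      induction l with
      | nil => intro i; simp [evalWord]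
      | cons z l ih =>
        intro i
        rw [List.map_cons, List.prod_cons, map_mul, Equiv.Perm.mul_apply, ih]
        cases z
        · rw [if_neg (by simp), hψx]; rfl
        · rw [if_pos rfl, hcand]; rfl
    have hper : Function.minimalPeriod (ψ g) i ∣ 7 := by
      refine Function.IsPeriodicPt.minimalPeriod_dvd ?_
      show (ψ g)^[7] i = i
      simp only [Function.iterate_succ, Function.iterate_zero, id, Function.comp_apply]
      rw [hev, hev, hev, hev, hev, hev, hev]
      exact h7
    have hper' : Function.minimalPeriod (ψ g) i ∣ 7920 := by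
      refine Function.IsPeriodicPt.minimalPeriod_dvd ?_
      show (ψ g)^[7920] i = i
      rw [← Equiv.Perm.coe_pow, ← map_pow, ← h.card, pow_card_eq_one', map_one, Equiv.Perm.one_apply]
    have h1 := Nat.dvd_gcd hper hper'
    rw [show Nat.gcd 7 7920 = 1 from rfl] at h1
    refine hne ?_
    have hfix := Function.minimalPeriod_eq_one_iff_isFixedPt.1 (Nat.dvd_one.1 h1)
    rw [← hev]
    exact hfix
  -- relabel
  obtain ⟨d, hd⟩ := mult_facts c hc0
  let μ : Equiv.Perm (Fin 11) := ⟨fun i => c * i, fun i => d * i, fun i => (hd i).2, fun i => (hd i).1⟩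
  let θ : G →* Equiv.Perm (Fin 11) := (MulAut.conj μ⁻¹).toMonoidHom.comp ψ
  have hθinj : Function.Injective θ := (MulAut.conj μ⁻¹).injective.comp hψinj
  have hWm : quadEleven ∈ θ.range := ⟨w, Equiv.ext fun i => μ.injective (by
    show μ (μ⁻¹ (ψ w (μ i))) = μ (quadEleven i)
    rw [← Equiv.Perm.mul_apply, mul_inv_cancel, Equiv.Perm.one_apply, hcand]
    exact hc i)⟩
  have hXm : cycEleven ∈ θ.range := by
    refine ⟨x ^ c.val, Equiv.ext fun i => μ.injective ?_⟩
    show μ (μ⁻¹ (ψ (x ^ c.val) (μ i))) = μ (cycEleven i)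
    rw [← Equiv.Perm.mul_apply, mul_inv_cancel, Equiv.Perm.one_apply, map_pow, hψx]
    exact cyc_pow c i
  have hle : stdEleven ≤ θ.range := (closure_le _).2 (by rintro z (rfl | rfl) <;> assumption)
  have hmap : (stdEleven.comap θ).map θ = stdEleven := map_comap_eq_self hle
  set D := stdEleven.comap θ with hD
  have hDc : Nat.card D = Nat.card stdEleven := by
    conv_rhs => rw [← hmap]
    exact Nat.card_congr (equivMapOfInjective _ θ hθinj).toEquiv
  have hDtop : D = ⊤ := by
    by_contra hne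
    have hidx : D.index ≤ 6 := by
      obtain ⟨q, hq⟩ := hDc ▸ std_dvd
      have hmul := D.index_mul_card
      rw [hq, h.card] at hmul
      have hq0 : 0 < q := Nat.pos_of_ne_zero fun e => by rw [e, mul_zero, mul_zero] at hmul; norm_num at hmul
      nlinarith
    have hidx1 : D.index ≠ 1 := fun e => hne (index_eq_one.1 e)
    have hinjD : Function.Injective (MulAction.toPermHom G (G ⧸ D)) := by
      refine (MonoidHom.ker_eq_bot_iff _).1 ?_
      rw [← normalCore_eq_ker]
      exact (D.normalCore_normal.eq_bot_or_eq_top).resolve_right fun e => hne (top_le_iff.1 (e ▸ D.normalCore_le))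
    have := Nat.card_le_card_of_injective _ hinjD
    rw [h.card, Nat.card_perm, show Nat.card (G ⧸ D) = D.index from rfl] at this
    have := this.trans (Nat.factorial_le hidx)
    norm_num [Nat.factorial] at this
  refine ⟨(MonoidHom.ofInjective hθinj).trans (MulEquiv.subgroupCongr ?_)⟩
  rw [← hmap, hDtop, MonoidHom.range_eq_map]

end CfsgLib.Char.MEleven
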