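import Cfsg.Agent.Lib.Char.MEleven.Eleven
import Cfsg.Agent.Lib.Spor.M11Centralizer
import Cfsg.Agent.Lib.Spor.M11Transport
import Cfsg.Agent.Lib.Spor.MathieuSimple

/-!
# The uniqueness of `M₁₁`
-/

set_option autoImplicit false
set_option linter.all false

open Subgroup

namespace CfsgLib.Char.MEleven

open CfsgLib.Char.GLThreeCent

theorem simple_sporM11 : IsSimpleGroup ↥Cfsg.Spor.M11 := by
  obtain ⟨g, hg, hd, hp⟩ := CfsgLib.Spor.M11Transport.exists_conj CfsgLib.Spor.squareDodecad_mem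
    CfsgLib.Spor.M11Transport.zero_mem
  haveI : IsSimpleGroup ↥(CfsgLib.Spor.M11Transport.A Cfsg.Spor.squareDodecad (some 0)) :=
    CfsgLib.Spor.isSimpleGroup_stabilizer_dodecad_point CfsgLib.Spor.squareDodecad_mem
      CfsgLib.Spor.M11Transport.zero_mem
  exact (CfsgLib.Spor.M11Transport.toModel hg hd hp).symm.isSimpleGroup

/-- A group of order 7920 with an involution centralizer `GL(2,3)` and no subgroup of index two
is `M₁₁`. -/
theorem iso_m11 {G : Type*} [Group G] [Finite G] (t : G) (ht : orderOf t = 2)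
    (e : centralizer ({t} : Set G) ≃* GL (Fin 2) (ZMod 3)) (hc : Nat.card G = 7920)
    (hno2 : ∀ H : Subgroup G, H.index ≠ 2) : Nonempty (G ≃* ↥Cfsg.Spor.M11) := by
  haveI : Fact (Nat.Prime 2) := ⟨Nat.prime_two⟩
  obtain ⟨el, hel⟩ := exists_emb t ht e
  obtain ⟨u, hu⟩ := exists_prime_orderOf_dvd_card' (G := ↥Cfsg.Spor.M11) 2
    (by rw [CfsgLib.Spor.card_sporM11]; norm_num)
  obtain ⟨e'⟩ := CfsgLib.Spor.M11Cent.centralizer_equiv hu
  obtain ⟨el', hel'⟩ := exists_emb u hu e'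
  haveI := simple_sporM11
  have hno : ∀ H : Subgroup ↥Cfsg.Spor.M11, H.index ≠ 2 := by
    intro H hH
    haveI := normal_of_index_eq_two hH
    rcases Normal.eq_bot_or_eq_top (H := H) inferInstance with rfl | rfl
    · rw [index_bot, CfsgLib.Spor.card_sporM11] at hH; norm_num at hH
    · rw [index_top] at hH; norm_num at hH
  obtain ⟨a⟩ := MHyp.iso_std (t := t) (el := el) ⟨hel, hc, hno2⟩
  obtain ⟨b⟩ := MHyp.iso_std (t := u) (el := el') ⟨hel', CfsgLib.Spor.card_sporM11, hno⟩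
  exact ⟨a.trans b.symm⟩

end CfsgLib.Char.MEleven
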