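import Cfsg.Agent.Lib.Char.LThreeThree.Graph
import Cfsg.Agent.Lib.Char.MEleven.Uniq

/-!
# `M₁₁` is determined by its commuting graph
-/

set_option autoImplicit false
set_option linter.all false

open Subgroup

namespace CfsgLib.Char.MEleven

open CfsgLib.Char.GLThreeCent CfsgLib.Char.LThreeThree

variable {G : Type*} [Group G] [Finite G] {t : G} {el : Fin 48 → G}

/-- The elements whose centraliser has order 48 are the involutions. -/
theorem MHyp.eq_conj_of_card (h : MHyp t el) {g : G} (hg : Nat.card (centralizer ({g} : Set G)) = 48) :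
    ∃ k : G, k * g * k⁻¹ = t := by
  classical
  haveI : Fact (Nat.Prime 2) := ⟨Nat.prime_two⟩
  obtain ⟨S, hS⟩ := h.emb.exists_sylow
  obtain ⟨T⟩ : Nonempty (Sylow 2 (centralizer ({g} : Set G))) := inferInstance
  have hT : Nat.card (T : Subgroup (centralizer ({g} : Set G))) = 2 ^ 4 := by
    rw [T.card_eq_multiplicity, hg, show (48 : ℕ) = 2 ^ 4 * 3 by norm_num,
      Nat.factorization_mul (by norm_num) (by norm_num), Nat.prime_two.factorization_pow]
    simp [Nat.factorization_eq_zero_of_not_dvd (show ¬ 2 ∣ 3 by norm_num)]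
  set K := (T : Subgroup (centralizer ({g} : Set G))).map (centralizer ({g} : Set G)).subtype with hK
  have hKc : Nat.card K = 2 ^ 4 := by
    rw [← hT]; exact Nat.card_congr (equivMapOfInjective _ _ (subtype_injective _)).toEquiv.symm
  obtain ⟨k, hk⟩ := Invol.exists_conj_le_sylow (Q := K) (IsPGroup.of_card hKc) S
  have hsub : ∀ j, inP j → Commute (k * g * k⁻¹) (el j) := by
    let f : K → h.emb.sub := fun w => ⟨k * (w : G) * k⁻¹, hS ▸ hk _ w.2⟩
    have hf : Function.Bijective f := (Nat.bijective_iff_injective_and_card f).2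
      ⟨fun a b e => Subtype.ext (by simpa [f] using e), by rw [hKc, h.emb.card_sub]; norm_num⟩
    intro j hj
    obtain ⟨⟨w, hw⟩, hwe⟩ := hf.2 ⟨el j, j, hj, rfl⟩
    rw [show el j = k * w * k⁻¹ from (congrArg Subtype.val hwe).symm]
    obtain ⟨c, -, rfl⟩ := hw
    exact (show Commute g (c : G) from (mem_centralizer_singleton_iff.1 c.2).symm).map (MulAut.conj k).toMonoidHom
  obtain ⟨i, hi⟩ := (h.emb.mem (k * g * k⁻¹)).1 (mem_centralizer_singleton_iff.2 (by
    have := hsub tI inP_facts.2.1
    rwa [h.emb.map_t] at this))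
  rcases model_sylow_cent i (fun j hj => h.emb.inj (by rw [h.emb.mul, h.emb.mul, hi]; exact hsub j hj)) with e | e
  · rw [e, h.emb.one, eq_comm, conj_eq_one_iff] at hi
    rw [hi, show centralizer ({(1 : G)} : Set G) = ⊤ from eq_top_iff.2 fun w _ =>
      mem_centralizer_singleton_iff.2 (by rw [mul_one, one_mul]), card_top, h.card] at hg
    norm_num at hg
  · exact ⟨k, by rw [← hi, e, h.emb.map_t]⟩

/-- A group with the commuting graph of `M₁₁`. -/
theorem iso_of_commute_equiv {H : Type*} [Group H] [Finite H] (h : MHyp t el) (φ : H ≃ G) (h1 : φ 1 = 1)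
    (hφ : ∀ a b : H, a * b = b * a ↔ φ a * φ b = φ b * φ a) :
    Nonempty (H ≃* ↥Cfsg.Spor.M11) := by
  classical
  haveI : Fact (Nat.Prime 2) := ⟨Nat.prime_two⟩
  have hc : Nat.card H = 7920 := by rw [Nat.card_congr φ, h.card]
  have hcc : ∀ w : H, Nat.card (centralizer ({w} : Set H)) = Nat.card (centralizer ({φ w} : Set G)) := by
    intro w
    refine Nat.card_congr (φ.subtypeEquiv fun a => ?_)
    rw [mem_centralizer_singleton_iff, mem_centralizer_singleton_iff]
    exact hφ a w
  have hcinf : ∀ w v : H, Nat.card (centralizer ({w} : Set H) ⊓ centralizer ({v} : Set H) : Subgroup H) =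
      Nat.card (centralizer ({φ w} : Set G) ⊓ centralizer ({φ v} : Set G) : Subgroup G) := by
    intro w v
    refine Nat.card_congr (φ.subtypeEquiv fun a => ?_)
    simp only [mem_inf, mem_centralizer_singleton_iff]
    rw [hφ a w, hφ a v]
  -- preimages of involutions are involutions
  have hcen : ∀ g : G, g * g = 1 → g ≠ 1 → orderOf (φ.symm g) = 2 ∧
      Nat.card (centralizer ({φ.symm g} : Set H)) = 48 := by
    intro g hg hg1
    have hgo : orderOf g = 2 := orderOf_eq_prime (by rw [pow_two]; exact hg) hg1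
    have h48 : Nat.card (centralizer ({φ.symm g} : Set H)) = 48 := by
      rw [hcc, Equiv.apply_symm_apply]; exact h.card_invol hgo
    refine ⟨?_, h48⟩
    obtain ⟨k, hk⟩ := h.invol_conj hgo
    set w := φ.symm g with hw
    have hw1 : w ≠ 1 := fun e => hg1 (by rw [← φ.apply_symm_apply g, ← hw, e, h1])
    have hz : ∀ v, (∀ a ∈ centralizer ({w} : Set H), a * v = v * a) → v = 1 ∨ v = w := by
      intro v hv
      have hall : ∀ b ∈ centralizer ({g} : Set G), b * φ v = φ v * b := fun b hb => by
        have hb' : φ.symm b ∈ centralizer ({w} : Set H) := mem_centralizer_singleton_iff.2 ((hφ _ _).2 (by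
          rw [Equiv.apply_symm_apply, hw, Equiv.apply_symm_apply]; exact mem_centralizer_singleton_iff.1 hb))
        have := (hφ _ _).1 (hv _ hb')
        rwa [Equiv.apply_symm_apply] at this
      have hv' : k * φ v * k⁻¹ ∈ centralizer ({t} : Set G) := by
        refine mem_centralizer_singleton_iff.2 ?_
        rw [← hk]
        exact ((show Commute g (φ v) from hall g (mem_centralizer_singleton_iff.2 rfl)).map
          (MulAut.conj k).toMonoidHom).symm.eq
      obtain ⟨i, hi⟩ := (h.emb.mem _).1 hv'
      rcases model_center i (fun j => h.emb.inj (by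
        rw [h.emb.mul, h.emb.mul, hi]
        have hj : k⁻¹ * el j * k ∈ centralizer ({g} : Set G) := mem_centralizer_singleton_iff.2 (by
          have := (show Commute (el j) t from h.emb.commute_t j).map (MulAut.conj k⁻¹).toMonoidHom
          rw [← hk] at this
          simpa [mul_assoc] using this.eq)
        calc el j * (k * φ v * k⁻¹) = k * ((k⁻¹ * el j * k) * φ v) * k⁻¹ := by group
          _ = k * (φ v * (k⁻¹ * el j * k)) * k⁻¹ := by rw [hall _ hj]
          _ = k * φ v * k⁻¹ * el j := by group)) with e | e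
      · left
        rw [e, h.emb.one, eq_comm, conj_eq_one_iff] at hi
        exact φ.injective (hi.trans h1.symm)
      · right
        rw [e, h.emb.map_t, ← hk] at hi
        rw [hw, Equiv.eq_symm_apply]
        exact (mul_left_cancel (mul_right_cancel hi)).symm
    rcases hz (w * w) (fun a ha => by
      rw [← mul_assoc, mem_centralizer_singleton_iff.1 ha, mul_assoc, mem_centralizer_singleton_iff.1 ha,
        mul_assoc]) with e | e
    · exact orderOf_eq_prime (by rw [pow_two, e]) hw1
    · exact absurd (mul_eq_left.1 e) hw1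
  set u := φ.symm t with hu
  obtain ⟨hu2, hu48⟩ := hcen t h.emb.t_invol.1 h.emb.t_invol.2
  obtain ⟨hs1, hs2⟩ := h.emb.isInv_iff.2 xI_facts.2.2.1
  set v := φ.symm (el sI) with hv
  obtain ⟨hv2, hv48⟩ := hcen _ hs1 hs2
  have hvu : v ∈ centralizer ({u} : Set H) := mem_centralizer_singleton_iff.2 ((hφ _ _).2 (by
    rw [hv, hu, Equiv.apply_symm_apply, Equiv.apply_symm_apply]; exact h.emb.commute_t sI))
  have hsub : ∀ w : centralizer ({u} : Set H), Nat.card (centralizer ({w} : Set (centralizer ({u} : Set H)))) =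
      Nat.card (centralizer ({(w : H)} : Set H) ⊓ centralizer ({u} : Set H) : Subgroup H) := by
    intro w
    refine Nat.card_congr ⟨fun a => ⟨(a.1 : H), mem_inf.2 ⟨mem_centralizer_singleton_iff.2
      (congrArg Subtype.val (mem_centralizer_singleton_iff.1 a.2)), a.1.2⟩⟩,
      fun a => ⟨⟨a.1, (mem_inf.1 a.2).2⟩, mem_centralizer_singleton_iff.2 (Subtype.ext
        (mem_centralizer_singleton_iff.1 (mem_inf.1 a.2).1))⟩, fun a => rfl, fun a => rfl⟩
  have hmodel : ∀ w : centralizer ({u} : Set H), (w : H) ≠ 1 → (w : H) ≠ u → ∃ i : Fin 48, i ≠ oneI ∧ i ≠ tI ∧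
      el i = φ w ∧ Nat.card (centralizer ({w} : Set (centralizer ({u} : Set H)))) =
        (Finset.univ.filter fun j => mulI j i = mulI i j).card := by
    intro w hw1 hwu
    have hwc : φ w ∈ centralizer ({t} : Set G) := mem_centralizer_singleton_iff.2 (by
      have := (hφ _ _).1 (mem_centralizer_singleton_iff.1 w.2)
      rwa [show φ u = t from φ.apply_symm_apply t] at this)
    obtain ⟨i, hi⟩ := (h.emb.mem _).1 hwc
    refine ⟨i, fun e => hw1 (φ.injective ?_), fun e => hwu ?_, hi, ?_⟩
    · rw [← hi, e, h.emb.one, h1]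
    · refine φ.injective ?_
      rw [show φ u = t from φ.apply_symm_apply t, ← hi, e, h.emb.map_t]
    · rw [hsub, hcinf, show φ u = t from φ.apply_symm_apply t, ← hi, card_inf_centralizer h.emb]
  obtain ⟨e⟩ : Nonempty (centralizer ({u} : Set H) ≃* GL (Fin 2) (ZMod 3)) := by
    refine gl_two_three_of_centralizers (z := ⟨u, mem_centralizer_singleton_iff.2 rfl⟩) hu48
      (by rw [Subgroup.orderOf_mk]; exact hu2) (fun w => Subtype.ext (mem_centralizer_singleton_iff.1 w.2))
      (fun w hw => ?_) (t := ⟨v, hvu⟩) (by rw [Subgroup.orderOf_mk]; exact hv2) ?_ ?_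
    · obtain ⟨i, hi1, hit, -, he⟩ := hmodel w
        (fun e => by rw [← Subgroup.orderOf_coe, e, orderOf_one] at hw; norm_num at hw)
        (fun e => by rw [← Subgroup.orderOf_coe, e, hu2] at hw; norm_num at hw)
      have h3 : 3 ∣ Nat.card (centralizer ({w} : Set (centralizer ({u} : Set H)))) := by
        rw [← hw, ← Nat.card_zpowers]
        exact card_dvd_of_le (zpowers_le.2 (mem_centralizer_singleton_iff.2 rfl))
      rw [he] at h3 ⊢
      have hm := model_cent i hi1 hit
      simp only [List.mem_cons, List.not_mem_nil, or_false] at hm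
      omega
    · intro e
      refine xI_facts.2.2.2.1 (h.emb.inj ?_)
      rw [h.emb.map_t]
      exact φ.symm.injective (congrArg Subtype.val e)
    · rw [hsub, hcinf]
      show Nat.card (centralizer ({φ v} : Set G) ⊓ centralizer ({φ u} : Set G) : Subgroup G) ≤ 4
      rw [hv, hu, Equiv.apply_symm_apply, Equiv.apply_symm_apply, card_inf_centralizer h.emb, model_cent_s]
  obtain ⟨el', hel'⟩ := exists_emb u hu2 e
  refine iso_m11 u hu2 e hc fun K hK => ?_
  haveI := normal_of_index_eq_two hK
  -- one class of elements with centraliser order 48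
  have hset : {w : H | Nat.card (centralizer ({w} : Set H)) = 48}.ncard * 48 ≤ Nat.card H := by
    have himg : {w : H | Nat.card (centralizer ({w} : Set H)) = 48} ⊆ φ.symm '' MulAction.orbit (ConjAct G) t := by
      intro w hw
      obtain ⟨k, hk⟩ := h.eq_conj_of_card (g := φ w) ((hcc w).symm.trans hw)
      refine ⟨φ w, ⟨ConjAct.toConjAct k⁻¹, ?_⟩, φ.symm_apply_apply w⟩
      show k⁻¹ * t * k⁻¹⁻¹ = φ w
      rw [← hk]; group
    have horb := (MulAction.stabilizer (ConjAct G) t).index_mul_card
    rw [MulAction.index_stabilizer, show Nat.card (ConjAct G) = Nat.card G from rfl, h.card] at horb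
    have hst : Nat.card (MulAction.stabilizer (ConjAct G) t) = 48 := by
      rw [← h.emb.card_centralizer]
      refine Nat.card_congr ⟨fun g => ⟨ConjAct.ofConjAct g.1, mem_centralizer_singleton_iff.2 (mul_inv_eq_iff_eq_mul.1 g.2)⟩,
        fun c => ⟨ConjAct.toConjAct c.1, mul_inv_eq_iff_eq_mul.2 (mem_centralizer_singleton_iff.1 c.2)⟩,
        fun g => rfl, fun c => rfl⟩
    rw [hst] at horb
    have := (Set.ncard_le_ncard himg (Set.toFinite _)).trans (Set.ncard_image_le (Set.toFinite _))
    rw [hc, ← horb]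
    exact Nat.mul_le_mul_right _ this
  have huK : u ∈ K := by
    obtain ⟨a, ha⟩ := model_sq
    rw [← hel'.map_t, ← ha, hel'.mul]
    exact mul_self_mem_of_index_two hK _
  have hvK : v ∈ K := by
    obtain ⟨k, hk⟩ := conj_class_eq (by norm_num) hu48 hset v hv48
    exact hk ▸ Normal.conj_mem inferInstance u huK k
  obtain ⟨j, hj⟩ := (hel'.mem v).1 hvu
  have hjinv : isInv j := hel'.isInv_iff.1 (hj ▸ ⟨CfsgLib.Invol.invol_mul_self hv2, CfsgLib.Invol.invol_ne_one hv2⟩)
  have hjt : j ≠ tI := fun e' => by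
    rw [e', hel'.map_t] at hj
    exact xI_facts.2.2.2.1 (h.emb.inj (by
      rw [h.emb.map_t]
      exact φ.symm.injective hj.symm))
  have hinvK : ∀ i ∈ invList, el' i ∈ K := by
    intro i hi
    by_cases hi1 : i = oneI
    · rw [hi1, hel'.one]; exact K.one_mem
    by_cases hit : i = tI
    · rw [hit, hel'.map_t]; exact huK
    obtain ⟨k, hk⟩ := model_class j i hjinv hjt ⟨invList_mem i hi, hi1⟩ hit
    rw [← hk, hel'.mul, hel'.mul, hel'.inv, hj]
    exact Normal.conj_mem inferInstance v hvK _
  have hQK : centralizer ({u} : Set H) ≤ K := by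
    intro c hc
    obtain ⟨i, rfl⟩ := (hel'.mem c).1 hc
    obtain ⟨a, ha, b, hb, hab⟩ := invList_gen i
    have := K.mul_mem (K.inv_mem (K.mul_mem (hinvK a ha) (hinvK b hb))) (hinvK _ hab)
    rwa [hel'.mul, hel'.mul, inv_mul_cancel_left] at this
  have hd : 48 ∣ Nat.card K := hu48 ▸ card_dvd_of_le hQK
  have hmul := K.index_mul_card
  rw [hK, hc] at hmul
  omega

end CfsgLib.Char.MEleven
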