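import Cfsg.Agent.Lib.Char.MEleven.Three

/-!
# A subgroup of index eleven
-/

set_option autoImplicit false
set_option linter.all false

open Subgroup

namespace CfsgLib.Char.MEleven

open CfsgLib.Char.GLThreeCent CfsgLib.Char.LThreeThree

variable {G : Type*} [Group G] [Finite G] {t : G} {el : Fin 48 → G}

/-- The configuration used to build the subgroup. -/
theorem MHyp.exists_config (h : MHyp t el) :
    ∃ e u w : G, ∃ elu : Fin 48 → G, MHyp u elu ∧ orderOf e = 3 ∧ u * e * u = e⁻¹ ∧ w * w = 1 ∧ w ≠ 1 ∧ w ≠ u ∧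
      u * w = w * u ∧ w * e * (w * e) * (w * e) = 1 := by
  classical
  obtain ⟨-, -, hsI, hsIt, -⟩ := xI_facts
  obtain ⟨hs1, hs2⟩ := h.emb.isInv_iff.2 hsI
  set s := el sI with hs
  have hts : t * s = s * t := (h.emb.commute_t sI).symm
  have hst : s ≠ t := fun e => hsIt (h.emb.inj (e.trans h.emb.map_t.symm))
  obtain ⟨iu, hiu, hiut, hius, hiust, hiuc⟩ := exists_u sI hsI hsIt
  obtain ⟨hu1, hu2⟩ := h.emb.isInv_iff.2 hiu
  set u := el iu with hu
  have hus : u * s * u = t * s := by rw [hu, hs, ← h.emb.mul, ← h.emb.mul, hiuc, h.emb.mul, h.emb.map_t]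
  have hut : u * t = t * u := h.emb.commute_t iu
  have huo : orderOf u = 2 := orderOf_eq_prime (by rw [pow_two]; exact hu1) hu2
  have hso : orderOf s = 2 := orderOf_eq_prime (by rw [pow_two]; exact hs1) hs2
  obtain ⟨els, hS⟩ := h.exists_emb_at hso
  obtain ⟨it, hit⟩ := (hS.emb.mem t).1 (mem_centralizer_singleton_iff.2 hts)
  have hitI : isInv it := hS.emb.isInv_iff.1 (hit ▸ h.emb.t_invol)
  have hitt : it ≠ tI := fun e => hst (by rw [← hit, e, hS.emb.map_t])
  obtain ⟨ib, hib, -, -, -, hibc⟩ := exists_u it hitI hitt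
  obtain ⟨hb1, hb2⟩ := hS.emb.isInv_iff.2 hib
  set b := els ib with hb
  have hbt : b * t * b = s * t := by rw [hb, ← hit, ← hS.emb.mul, ← hS.emb.mul, hibc, hS.emb.mul, hS.emb.map_t]
  have hbs : b * s = s * b := hS.emb.commute_t ib
  have hui : u⁻¹ = u := inv_eq_of_mul_eq_one_left hu1
  have hbi : b⁻¹ = b := inv_eq_of_mul_eq_one_left hb1
  -- the three-cycle on the four-group
  set e := u * b with he
  have hei : e⁻¹ = b * u := by rw [he, mul_inv_rev, hui, hbi]
  have c1 : e * t * e⁻¹ = s := by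
    rw [hei, he, show u * b * t * (b * u) = u * (b * t * b) * u by group, hbt,
      show u * (s * t) * u = u * s * (t * u) by group, ← hut, show u * s * (u * t) = u * s * u * t by group, hus,
      hts, mul_assoc, h.emb.t_invol.1, mul_one]
  have c2 : e * s * e⁻¹ = t * s := by
    rw [hei, he, show u * b * s * (b * u) = u * (b * s) * b * u by group, hbs,
      show u * (s * b) * b * u = u * s * (b * b) * u by group, hb1, mul_one, hus]
  have c3 : e * (t * s) * e⁻¹ = t := by
    rw [show e * (t * s) * e⁻¹ = e * t * e⁻¹ * (e * s * e⁻¹) by group, c1, c2, ← mul_assoc, ← hts, mul_assoc, hs1,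
      mul_one]
  have he3c : ∀ y, y = t ∨ y = s → e ^ 3 * y = y * e ^ 3 := by
    rintro y (rfl | rfl)
    · refine mul_inv_eq_iff_eq_mul.1 ?_
      rw [show e ^ 3 * y * (e ^ 3)⁻¹ = e * (e * (e * y * e⁻¹) * e⁻¹) * e⁻¹ by rw [pow_succ, pow_two]; group, c1, c2, c3]
    · refine mul_inv_eq_iff_eq_mul.1 ?_
      rw [show e ^ 3 * el sI * (e ^ 3)⁻¹ = e * (e * (e * el sI * e⁻¹) * e⁻¹) * e⁻¹ by rw [pow_succ, pow_two]; group, c2, c3, c1]
  have hV : ∀ y, y * t = t * y → y * s = s * y → y = 1 ∨ y = t ∨ y = s ∨ y = t * s := by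
    intro y h1 h2
    obtain ⟨i, hi⟩ := (h.emb.mem y).1 (mem_centralizer_singleton_iff.2 h1)
    rcases comm_sI_cases i (h.emb.inj (by rw [h.emb.mul, h.emb.mul, hi]; exact h2)) with r | r | r | r <;>
      rw [← hi, r]
    · exact Or.inl h.emb.one
    · exact Or.inr (Or.inl h.emb.map_t)
    · exact Or.inr (Or.inr (Or.inl rfl))
    · exact Or.inr (Or.inr (Or.inr (by rw [h.emb.mul, h.emb.map_t]; rfl)))
  have he1 : e ≠ 1 := fun r => hst (by rw [r, one_mul, inv_one, mul_one] at c1; exact c1.symm)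
  have he3 : e ^ 3 = 1 := by
    rcases hV _ (he3c t (Or.inl rfl)) (he3c s (Or.inr rfl)) with r | r | r | r
    · exact r
    all_goals
      exfalso
      have hcomm : e * e ^ 3 * e⁻¹ = e ^ 3 := by group
      rw [r] at hcomm
      first
        | (rw [c1] at hcomm; exact hst hcomm)
        | (rw [c2] at hcomm; exact h.emb.t_invol.2 (mul_eq_right.1 hcomm))
        | (rw [c3] at hcomm; exact hs2 (left_eq_mul.1 hcomm))
  haveI : Fact (Nat.Prime 3) := ⟨Nat.prime_three⟩
  have heo : orderOf e = 3 := orderOf_eq_prime he3 he1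
  have hrel : t * e * (t * e) * (t * e) = 1 := by
    calc t * e * (t * e) * (t * e) = t * (e * t * e⁻¹) * (e * (e * t * e⁻¹) * e⁻¹) * e ^ 3 := by group
      _ = t * s * (t * s) := by rw [he3, mul_one, c1, c2]
      _ = (t * t) * (s * s) := by rw [show t * s * (t * s) = t * (s * t) * s by group, ← hts]; group
      _ = 1 := by rw [h.emb.t_invol.1, hs1, mul_one]
  obtain ⟨elu, hU⟩ := h.exists_emb_at huo
  refine ⟨e, u, t, elu, hU, heo, ?_, h.emb.t_invol.1, h.emb.t_invol.2, ?_, hut, hrel⟩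
  · rw [hei, he, ← mul_assoc, hu1, one_mul]
  · exact fun r => hiut (h.emb.inj (r.symm.trans h.emb.map_t.symm))

/-- The inverting involution inverts the whole Sylow subgroup. -/
theorem MHyp.inverts_sylow (h : MHyp t el) {e u w : G} {elu : Fin 48 → G} (hU : MHyp u elu) (he : orderOf e = 3)
    (hue : u * e * u = e⁻¹) (hw : w * w = 1) (hw1 : w ≠ 1) (hwu : w ≠ u) (huw : u * w = w * u)
    (hrel : w * e * (w * e) * (w * e) = 1) :
    ∃ P : Sylow 3 G, e ∈ (P : Subgroup G) ∧ ∀ p ∈ (P : Subgroup G), u * p * u = p⁻¹ := by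
  classical
  haveI : Fact (Nat.Prime 3) := ⟨Nat.prime_three⟩
  haveI : Fact (Nat.Prime 2) := ⟨Nat.prime_two⟩
  obtain ⟨P, hP⟩ := (IsPGroup.of_card (n := 1) (by rw [Nat.card_zpowers, he, pow_one]) :
    IsPGroup 3 (zpowers e)).exists_le_sylow
  have heP : e ∈ (P : Subgroup G) := hP (mem_zpowers e)
  refine ⟨P, heP, ?_⟩
  have huu : u * u = 1 := hU.emb.t_invol.1
  have hui : u⁻¹ = u := inv_eq_of_mul_eq_one_left huu
  have hPu : u ∈ normalizer ((P : Subgroup G) : Set G) := by
    refine Sylow.smul_eq_iff_mem_normalizer.1 (h.sylow_unique he ⟨e⁻¹, inv_mem heP, ?_⟩ heP)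
    show u * e⁻¹ * u⁻¹ = e
    rw [hui, ← hue, show u * (u * e * u) * u = (u * u) * e * (u * u) by group, huu, one_mul, mul_one]
  have hcommP : ∀ a ∈ (P : Subgroup G), ∀ b ∈ (P : Subgroup G), a * b = b * a :=
    fun a ha b hb => sylow_comm (h.card_sylow_three P) ha hb
  intro p hp
  by_contra hne
  have hc : u * p * u ∈ (P : Subgroup G) := by
    have := (mem_normalizer_iff.1 hPu p).1 hp
    rwa [hui] at this
  set a := u * p * u * p with ha
  have haP : a ∈ (P : Subgroup G) := mul_mem hc hp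
  have ha1 : a ≠ 1 := fun r => hne (eq_inv_of_mul_eq_one_left r)
  have hau : u * a = a * u := by
    calc u * (u * p * u * p) = (u * u) * (p * u * p) := by group
      _ = p * u * p * (u * u) := by rw [huu, one_mul, mul_one]
      _ = p * (u * p * u) * u := by group
      _ = u * p * u * p * u := by rw [hcommP _ hp _ hc]
  have hexp : ∀ q ∈ (P : Subgroup G), q ^ 3 = 1 := by
    obtain ⟨P₀, v, elv, -, hV, -, -, hinv₀, -, -, -⟩ := h.exists_inverter
    obtain ⟨g, hg⟩ := MulAction.exists_smul_eq G P₀ P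
    intro q hq
    obtain ⟨q₀, hq₀, rfl⟩ := (hg.symm ▸ hq : q ∈ ((g • P₀ : Sylow 3 G) : Subgroup G))
    obtain ⟨-, -, hexp₀, -⟩ := h.inverter_facts hV hinv₀
    show (g * q₀ * g⁻¹) ^ 3 = 1
    rw [conj_pow, hexp₀ q₀ hq₀]; group
  -- an involution centralising `e` and commuting with `u`
  set C := centralizer ({e} : Set G) with hC
  have hC18 : Nat.card C = 18 := h.cent_three he
  obtain ⟨j, hj1, hj2, hje, hju⟩ : ∃ j, j * j = 1 ∧ j ≠ 1 ∧ j * e = e * j ∧ u * j = j * u := by
    let X := {j : G | j * j = 1 ∧ j ≠ 1 ∧ j * e = e * j}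
    have hPC : (P : Subgroup G) ≤ C := fun q hq => mem_centralizer_singleton_iff.2 (hcommP q hq e heP)
    obtain ⟨⟨j₀, hj₀C⟩, hj₀⟩ := exists_prime_orderOf_dvd_card' (G := C) 2 (by rw [hC18]; norm_num)
    rw [Subgroup.orderOf_mk] at hj₀
    have hj₀e : j₀ * e = e * j₀ := mem_centralizer_singleton_iff.1 hj₀C
    have h2 : ((P : Subgroup G).subgroupOf C).index = 2 := by
      have := ((P : Subgroup G).subgroupOf C).card_mul_index
      rw [Nat.card_congr (subgroupOfEquivOfLe hPC).toEquiv, h.card_sylow_three, hC18] at this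
      omega
    -- two involutions differ by an element of `P`
    have hdiff : ∀ j ∈ X, j₀ * j ∈ (P : Subgroup G) := by
      rintro j ⟨hjj, hj1', hje'⟩
      have hnot : ∀ y, y * y = 1 → y ≠ 1 → y ∉ (P : Subgroup G) := fun y hy hy1 hyP => hy1 (by
        have h3 := hexp y hyP
        rw [pow_succ, pow_two, hy, one_mul] at h3; exact h3)
      exact mem_subgroupOf.1 ((mul_mem_iff_of_index_two (H := (P : Subgroup G).subgroupOf C) h2
        (a := ⟨j₀, hj₀C⟩) (b := ⟨j, mem_centralizer_singleton_iff.2 hje'⟩)).2 (iff_of_false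
          (fun r => hnot j₀ (Invol.invol_mul_self hj₀) (Invol.invol_ne_one hj₀) (mem_subgroupOf.1 r))
          (fun r => hnot j hjj hj1' (mem_subgroupOf.1 r))))
    have hu_j₀ : u * j₀ * u ∈ X := by
      refine ⟨by rw [show u * j₀ * u * (u * j₀ * u) = u * j₀ * (u * u) * j₀ * u by group, huu, mul_one,
        show u * j₀ * j₀ * u = u * (j₀ * j₀) * u by group, Invol.invol_mul_self hj₀, mul_one, huu], ?_, ?_⟩
      · intro r
        exact Invol.invol_ne_one hj₀ ((conj_eq_one_iff (a := u)).1 (by rw [hui]; exact r))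
      · have hue' : u * e = e⁻¹ * u := by rw [← hue, mul_assoc, huu, mul_one]
        have heu : e * u = u * e⁻¹ := by rw [← hue, show u * (u * e * u) = (u * u) * e * u by group, huu, one_mul]
        have hje'' : e⁻¹ * j₀ = j₀ * e⁻¹ := ((show Commute j₀ e from hj₀e).inv_right).eq.symm
        calc u * j₀ * u * e = u * (j₀ * e⁻¹) * u := by rw [mul_assoc, hue']; group
          _ = u * (e⁻¹ * j₀) * u := by rw [hje'']
          _ = e * (u * j₀ * u) := by rw [← mul_assoc, ← heu]; group
    -- the fixed point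
    set d := j₀ * (u * j₀ * u) with hd
    have hdP : d ∈ (P : Subgroup G) := hdiff _ hu_j₀
    have hj₀j₀ := Invol.invol_mul_self hj₀
    have hdu : u * d * u = d⁻¹ := by
      rw [hd, mul_inv_rev, mul_inv_rev, mul_inv_rev, inv_eq_of_mul_eq_one_left hj₀j₀, hui,
        show u * (j₀ * (u * j₀ * u)) * u = u * j₀ * u * j₀ * (u * u) by group, huu, mul_one]
      group
    have hdj : j₀ * d * j₀ = d⁻¹ := by
      rw [hd, mul_inv_rev, mul_inv_rev, mul_inv_rev, inv_eq_of_mul_eq_one_left hj₀j₀, hui,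
        show j₀ * (j₀ * (u * j₀ * u)) * j₀ = (j₀ * j₀) * (u * j₀ * u * j₀) by group, hj₀j₀, one_mul]
      group
    have hd3 : d ^ 3 = 1 := hexp d hdP
    have hdi : d⁻¹ * d⁻¹ = d := by
      rw [← mul_inv_rev, ← pow_two]; exact inv_eq_of_mul_eq_one_left (by rw [← pow_succ', hd3])
    have hj₀i : j₀⁻¹ = j₀ := inv_eq_of_mul_eq_one_left hj₀j₀
    have hdj' : j₀ * d⁻¹ * j₀ = d := by
      rw [← hdj, show j₀ * (j₀ * d * j₀) * j₀ = (j₀ * j₀) * d * (j₀ * j₀) by group, hj₀j₀, one_mul, mul_one]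
    refine ⟨j₀ * d⁻¹, ?_, ?_, ?_, ?_⟩
    · rw [← mul_assoc, hdj', mul_inv_cancel]
    · intro r
      have h1 : j₀ = d := mul_inv_eq_one.1 r
      rw [← h1, hj₀j₀, one_mul, hj₀i] at hdj
      rw [← h1, pow_succ, pow_two, hj₀j₀, one_mul] at hd3
      exact Invol.invol_ne_one hj₀ hd3
    · have hde : Commute d e := hcommP d hdP e heP
      exact ((show Commute j₀ e from hj₀e).mul_left hde.inv_left).eq
    · have h1 : u * j₀ * u = j₀ * d := by rw [hd, ← mul_assoc, hj₀j₀, one_mul]
      have h2 : u * d⁻¹ * u = d := by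
        rw [← hdu, show u * (u * d * u) * u = (u * u) * d * (u * u) by group, huu, one_mul, mul_one]
      have h3 : u * (j₀ * d⁻¹) * u = j₀ * d⁻¹ := by
        calc u * (j₀ * d⁻¹) * u = u * j₀ * (u * u) * d⁻¹ * u := by rw [huu, mul_one, ← mul_assoc]
          _ = (u * j₀ * u) * (u * d⁻¹ * u) := by group
          _ = j₀ * (d * d) := by rw [h1, h2, mul_assoc]
          _ = j₀ * d⁻¹ := by rw [eq_inv_of_mul_eq_one_left (show d * d * d = 1 by rw [← pow_two, ← pow_succ, hd3])]
      calc u * (j₀ * d⁻¹) = u * (j₀ * d⁻¹) * (u * u) := by rw [huu, mul_one]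
        _ = (u * (j₀ * d⁻¹) * u) * u := by group
        _ = j₀ * d⁻¹ * u := by rw [h3]
  have hja : j * a * j = a⁻¹ := by
    have hjN : ∀ q ∈ (P : Subgroup G), j * q * j ∈ (P : Subgroup G) := by
      intro q hq
      have hjj : j⁻¹ = j := inv_eq_of_mul_eq_one_left hj1
      have hn : j ∈ normalizer ((P : Subgroup G) : Set G) :=
        Sylow.smul_eq_iff_mem_normalizer.1 (h.sylow_unique he ⟨e, heP, by
          show j * e * j⁻¹ = e
          rw [hje, mul_inv_cancel_right]⟩ heP)
      have := (mem_normalizer_iff.1 hn q).1 hq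
      rwa [hjj] at this
    set c := j * a * j * a with hc'
    by_contra hjane
    have hc1 : c ≠ 1 := fun r => hjane (eq_inv_of_mul_eq_one_left r)
    have hcj : j * c = c * j := by
      calc j * (j * a * j * a) = (j * j) * (a * j * a) := by group
        _ = a * j * a * (j * j) := by rw [hj1, one_mul, mul_one]
        _ = a * (j * a * j) * j := by group
        _ = j * a * j * a * j := by rw [hcommP _ haP _ (hjN a haP)]
    have hcu : u * c = c * u := by
      exact (((((show Commute u j from hju).mul_right hau).mul_right hju).mul_right hau)).eq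
    have hcP : c ∈ (P : Subgroup G) := mul_mem (hjN a haP) haP
    -- `c` and `e` generate `P`
    have hce : c ∉ zpowers e := by
      intro hm
      obtain ⟨k, hk⟩ := (isOfFinOrder_of_finite e).mem_powers_iff_mem_zpowers.2 hm
      have hk' : e ^ k = c := hk
      have h1 : u * e ^ k * u = (e ^ k)⁻¹ := by
        rw [show u * e ^ k * u = u * e ^ k * u⁻¹ by rw [hui], ← conj_pow, hui, hue, inv_pow]
      rw [hk', hcu, mul_assoc, huu, mul_one] at h1
      refine hc1 ?_
      have h2 : c * c = 1 := by nth_rewrite 1 [h1]; exact inv_mul_cancel c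
      have h3 := hexp c hcP
      rw [pow_succ, pow_two, h2, one_mul] at h3; exact h3
    have hsup : (P : Subgroup G) ≤ centralizer ({j} : Set G) := by
      have hle : zpowers e ⊔ zpowers c ≤ (P : Subgroup G) := sup_le (zpowers_le.2 heP) (zpowers_le.2 hcP)
      have heq : zpowers e ⊔ zpowers c = (P : Subgroup G) := by
        refine eq_of_le_of_card_ge hle ?_
        obtain ⟨i, hi, hi'⟩ := (Nat.dvd_prime_pow Nat.prime_three).1
          (show Nat.card (zpowers e ⊔ zpowers c : Subgroup G) ∣ 3 ^ 2 from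
            (card_dvd_of_le hle).trans (by rw [h.card_sylow_three]; norm_num))
        have h3 : 3 ∣ Nat.card (zpowers e ⊔ zpowers c : Subgroup G) := by
          rw [← he, ← Nat.card_zpowers]; exact card_dvd_of_le le_sup_left
        have hne3 : Nat.card (zpowers e ⊔ zpowers c : Subgroup G) ≠ 3 := fun r => hce <| by
          rw [eq_of_le_of_card_ge (le_sup_left : zpowers e ≤ zpowers e ⊔ zpowers c) (by rw [r, Nat.card_zpowers, he])]
          exact mem_sup_right (mem_zpowers c)
        rw [hi'] at h3 hne3 ⊢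
        rw [h.card_sylow_three]
        interval_cases i <;> simp_all
      rw [← heq]
      exact sup_le (zpowers_le.2 (mem_centralizer_singleton_iff.2 hje.symm))
        (zpowers_le.2 (mem_centralizer_singleton_iff.2 hcj.symm))
    have h9 := card_dvd_of_le hsup
    rw [h.card_sylow_three, h.card_invol (u := j) (orderOf_eq_prime (by rw [pow_two]; exact hj1) hj2)] at h9
    norm_num at h9
  -- coded
  obtain ⟨ij, hij⟩ := (hU.emb.mem j).1 (mem_centralizer_singleton_iff.2 hju.symm)
  obtain ⟨ia, hia⟩ := (hU.emb.mem a).1 (mem_centralizer_singleton_iff.2 hau.symm)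
  obtain ⟨iw, hiw⟩ := (hU.emb.mem w).1 (mem_centralizer_singleton_iff.2 huw.symm)
  have hju' : j ≠ u := fun r => by
    subst r
    rw [hje, mul_assoc, huu, mul_one] at hue
    have h3 : e ^ 3 = 1 := he ▸ pow_orderOf_eq_one e
    rw [pow_succ, pow_two, show e * e = 1 by nth_rewrite 1 [hue]; exact inv_mul_cancel e, one_mul] at h3
    rw [h3, orderOf_one] at he; norm_num at he
  obtain ⟨k, hk⟩ := ju_type ij ia iw (hU.emb.isInv_iff.1 (hij ▸ ⟨hj1, hj2⟩))
    (fun r => hju' (by rw [← hij, r, hU.emb.map_t])) (hU.emb.isInv_iff.1 (hiw ▸ ⟨hw, hw1⟩))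
    (fun r => hwu (by rw [← hiw, r, hU.emb.map_t])) (fun r => ha1 (by rw [← hia, r, hU.emb.one]))
    (hU.emb.inj (by rw [hU.emb.pow, hia, hU.emb.one, hexp a haP]))
    (hU.emb.inj (by rw [hU.emb.mul, hU.emb.mul, hU.emb.inv, hij, hia, hja]))
  set w' := a ^ k.val * w * (a ^ k.val)⁻¹ with hw'
  have hel : elu (mulI (mulI (powI ia k.val) iw) (invI (powI ia k.val))) = w' := by
    rw [hU.emb.mul, hU.emb.mul, hU.emb.inv, hU.emb.pow, hia, hiw]
  have hak : Commute (a ^ k.val) e := ((show Commute a e from hcommP a haP e heP)).pow_left _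
  have hwe' : w' * e = a ^ k.val * (w * e) * (a ^ k.val)⁻¹ := by
    rw [hw', show a ^ k.val * (w * e) * (a ^ k.val)⁻¹ = a ^ k.val * w * (e * (a ^ k.val)⁻¹) by group,
      (hak.inv_left.eq).symm]; group
  have hrel' : w' * e * (w' * e) * (w' * e) = 1 := by
    rw [hwe', show a ^ k.val * (w * e) * (a ^ k.val)⁻¹ * (a ^ k.val * (w * e) * (a ^ k.val)⁻¹) *
      (a ^ k.val * (w * e) * (a ^ k.val)⁻¹) = a ^ k.val * (w * e * (w * e) * (w * e)) * (a ^ k.val)⁻¹ by group, hrel]
    group
  have hw'u : u * w' = w' * u :=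
    ((((show Commute u a from hau).pow_right _).mul_right huw).mul_right ((show Commute u a from hau).pow_right _).inv_right).eq
  have hw'2 : w' * w' = 1 := by
    rw [hw', show a ^ k.val * w * (a ^ k.val)⁻¹ * (a ^ k.val * w * (a ^ k.val)⁻¹) = a ^ k.val * (w * w) * (a ^ k.val)⁻¹ by group, hw]
    group
  have hee : e * e * e = 1 := by rw [← pow_two, ← pow_succ, show 2 + 1 = orderOf e from he.symm, pow_orderOf_eq_one]
  have hjje : ∀ y : G, y * y = 1 → y * e = e * y → y * e * (y * e) * (y * e) = y := by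
    intro y hy hye
    rw [show y * e * (y * e) = y * (e * y) * e by group, ← hye, show y * (y * e) * e = (y * y) * (e * e) by group,
      hy, one_mul, show e * e * (y * e) = e * (e * y) * e by group, ← hye,
      show e * (y * e) * e = (e * y) * (e * e) by group, ← hye, show y * e * (e * e) = y * (e * e * e) by group,
      hee, mul_one]
  rcases hk with r | r | r
  · have := congrArg elu r
    rw [hel, hij] at this
    rw [this, hjje j hj1 hje] at hrel'
    exact hj2 hrel'
  · have := congrArg elu r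
    rw [hel, hU.emb.mul, hU.emb.map_t, hij] at this
    rw [this] at hrel'
    have hji : j⁻¹ = j := inv_eq_of_mul_eq_one_left hj1
    have hinv2 : u * j * e * (u * j * e) = 1 := by
      calc u * j * e * (u * j * e) = u * (j * e) * u * (j * e) := by group
        _ = u * (e * j) * u * (j * e) := by rw [hje]
        _ = u * e * (j * u) * (j * e) := by group
        _ = u * e * (u * j) * (j * e) := by rw [hju]
        _ = (u * e * u) * (j * j) * e := by group
        _ = 1 := by rw [hue, hj1, mul_one, inv_mul_cancel]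
    rw [hinv2, one_mul] at hrel'
    have hje2 : j * e = u := by
      calc j * e = (u * u) * (j * e) := by rw [huu, one_mul]
        _ = u * (u * j * e) := by group
        _ = u := by rw [hrel', mul_one]
    have hem : e = j * u := by rw [← hje2, ← mul_assoc, hj1, one_mul]
    have hee2 : e * e = 1 := by
      rw [hem, show j * u * (j * u) = j * (u * j) * u by group, hju, show j * (j * u) * u = (j * j) * (u * u) by group,
        hj1, huu, mul_one]
    rw [hee2, one_mul] at hee
    rw [hee, orderOf_one] at he; norm_num at he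
  · have := congrArg elu r
    rw [hU.emb.mul, hU.emb.mul, hel, hU.emb.mul, hel, hij, hU.emb.map_t] at this
    -- both `w'` and `u w'` satisfy the relation
    have hconj : j * (w' * e) * j = u * w' * e := by
      rw [show j * (w' * e) * j = j * w' * (e * j) by group, ← hje, show j * w' * (j * e) = j * w' * j * e by group, this]
    have hrel2 : u * w' * e * (u * w' * e) * (u * w' * e) = 1 := by
      rw [← hconj, show j * (w' * e) * j * (j * (w' * e) * j) * (j * (w' * e) * j) =
        j * (w' * e) * (j * j) * (w' * e) * (j * j) * (w' * e) * j by group, hj1, mul_one, mul_one,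
        show j * (w' * e) * (w' * e) * (w' * e) * j = j * (w' * e * (w' * e) * (w' * e)) * j by group, hrel', mul_one, hj1]
    clear_value w'
    have h2 : w'⁻¹ = w' := inv_eq_of_mul_eq_one_left hw'2
    have hwew : w' * e * w' = e⁻¹ * w' * e⁻¹ := by
      have h1 : w' * e * w' * (e * w' * e) = 1 := by rw [← hrel']; group
      rw [eq_inv_of_mul_eq_one_left h1, mul_inv_rev, mul_inv_rev, h2, ← mul_assoc]
    have hwew' : w' * e⁻¹ * w' = e * w' * e := by
      calc w' * e⁻¹ * w' = (w' * e * w')⁻¹ := by rw [mul_inv_rev, mul_inv_rev, h2, ← mul_assoc]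
        _ = e * w' * e := by rw [hwew, mul_inv_rev, mul_inv_rev, inv_inv, h2, ← mul_assoc]
    have heu : e * u = u * e⁻¹ := by rw [← hue, show u * (u * e * u) = (u * u) * e * u by group, huu, one_mul]
    have hue1 : u * e = e⁻¹ * u := by rw [← hue, mul_assoc, huu, mul_one]
    have he2 : e * e = e⁻¹ := eq_inv_of_mul_eq_one_left hee
    have hfin : u * w' * e * (u * w' * e) * (u * w' * e) = u * (e * w') := by
      calc u * w' * e * (u * w' * e) * (u * w' * e)
          = u * w' * (e * u) * w' * e * (u * w' * e) := by group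
        _ = u * (w' * u) * e⁻¹ * w' * e * (u * w' * e) := by rw [heu]; group
        _ = (u * u) * (w' * e⁻¹ * w') * e * (u * w' * e) := by rw [← hw'u]; group
        _ = e * w' * (e * e) * (u * w' * e) := by rw [huu, one_mul, hwew']; group
        _ = e * w' * (e⁻¹ * u) * w' * e := by rw [he2]; group
        _ = e * (w' * u) * e * w' * e := by rw [← hue1]; group
        _ = (e * u) * (w' * e * w') * e := by rw [← hw'u]; group
        _ = u * (e⁻¹ * e⁻¹) * w' := by rw [heu, hwew]; group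
        _ = u * (e * w') := by rw [← mul_inv_rev, he2, inv_inv, mul_assoc]
    rw [hrel2] at hfin
    have hem : e = u * w' := by
      calc e = (u * u) * e * (w' * w') := by rw [huu, hw'2, one_mul, mul_one]
        _ = u * (u * (e * w')) * w' := by group
        _ = u * w' := by rw [← hfin, mul_one]
    have hee2 : e * e = 1 := by
      rw [hem, show u * w' * (u * w') = u * (w' * u) * w' by group, ← hw'u,
        show u * (u * w') * w' = (u * u) * (w' * w') by group, huu, hw'2, one_mul]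
    rw [hee2, one_mul] at hee
    rw [hee, orderOf_one] at he; norm_num at he

/-- A group of order 7920 with an involution centraliser `GL(2,3)` has a subgroup of index eleven. -/
theorem MHyp.exists_index_eleven (h : MHyp t el) : ∃ K : Subgroup G, K.index = 11 := by
  classical
  haveI : Fact (Nat.Prime 3) := ⟨Nat.prime_three⟩
  haveI := h.simple
  obtain ⟨e, u, w, elu, hU, he, hue, hw, hw1, hwu, huw, hrel⟩ := h.exists_config
  obtain ⟨P, heP, hinv⟩ := h.inverts_sylow hU he hue hw hw1 hwu huw hrel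
  obtain ⟨hRN, hself, hexp, htr⟩ := h.inverter_facts hU hinv
  have hPc := h.card_sylow_three P
  set M := normalizer ((P : Subgroup G) : Set G) with hM
  obtain ⟨iw, hiw⟩ := (hU.emb.mem w).1 (mem_centralizer_singleton_iff.2 huw.symm)
  obtain ⟨ifo, hfR, hf1, hft, hfw, hfconj, r₀, hr₀, hr₀f⟩ := exists_f iw (hU.emb.isInv_iff.1 (hiw ▸ ⟨hw, hw1⟩))
    (fun r => hwu (by rw [← hiw, r, hU.emb.map_t]))
  set f := elu ifo with hf
  have hfM : f ∈ M := hRN _ hfR
  have hwf : w * f * w = f⁻¹ := by rw [hf, ← hiw, ← hU.emb.mul, ← hU.emb.mul, hfw, hU.emb.inv]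
  have hf4 : f ^ 4 = 1 := by
    rcases hfR with r | r | r
    · exact absurd r hf1
    · exact absurd r hft
    · have h2 : f * f = u := by rw [hf, ← hU.emb.mul, r, hU.emb.map_t]
      rw [show f ^ 4 = (f * f) * (f * f) by rw [pow_succ, pow_succ, pow_two]; group, h2]
      exact hU.emb.t_invol.1
  have hwi : w⁻¹ = w := inv_eq_of_mul_eq_one_left hw
  have hfp : ∀ k : ℕ, w * f ^ k = (f ^ k)⁻¹ * w := by
    intro k
    refine eq_mul_of_mul_inv_eq ?_
    rw [← inv_pow, ← hwf, show w * f * w = w * f * w⁻¹ by rw [hwi], conj_pow]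
  -- the subgroup `B`
  set B := (P : Subgroup G) ⊔ zpowers f with hB
  have hBmem : ∀ b, b ∈ B ↔ ∃ d ∈ (P : Subgroup G), ∃ k : ℕ, b = d * f ^ k := by
    intro b
    constructor
    · intro hb
      have h1 : b ∈ (((P : Subgroup G) ⊔ zpowers f : Subgroup G) : Set G) := hb
      rw [Subgroup.coe_mul_of_right_le_normalizer_left _ _ (zpowers_le.2 hfM)] at h1
      obtain ⟨d, hd, y, hy, rfl⟩ := Set.mem_mul.1 h1
      obtain ⟨k, rfl⟩ := (isOfFinOrder_of_finite f).mem_powers_iff_mem_zpowers.2 hy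
      exact ⟨d, hd, k, rfl⟩
    · rintro ⟨d, hd, k, rfl⟩
      exact mul_mem (mem_sup_left hd) (pow_mem (mem_sup_right (mem_zpowers f)) k)
  have hBM : B ≤ M := sup_le le_normalizer (zpowers_le.2 hfM)
  have hwM : w ∉ M := by
    intro hwm
    have hc : ∀ q ∈ (P : Subgroup G), w * q * w ∈ (P : Subgroup G) := fun q hq => by
      have := (mem_normalizer_iff.1 hwm q).1 hq
      rwa [hwi] at this
    have h1 : w = (w * e * w * e)⁻¹ * e⁻¹ := by
      refine eq_inv_mul_iff_mul_eq.2 (eq_inv_of_mul_eq_one_left ?_)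
      rw [← hrel]; group
    have hwP : w ∈ (P : Subgroup G) := h1.symm ▸ mul_mem (inv_mem (mul_mem (hc e heP) heP)) (inv_mem heP)
    have h3 := hexp w hwP
    rw [pow_succ, pow_two, hw, one_mul] at h3
    exact hw1 h3
  -- the key relations
  have hkey : ∀ d ∈ (P : Subgroup G), d ≠ 1 → ∃ b ∈ B, ∃ q ∈ (P : Subgroup G), w * d * w = b * w * q := by
    intro d hd hd1
    obtain ⟨i, hi, hid⟩ := htr e heP d hd (fun r => by rw [r, orderOf_one] at he; norm_num at he) hd1
    obtain ⟨k, hk⟩ := (hfconj i hi).2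
    have hv : elu i * w * (elu i)⁻¹ = w * f ^ k.val := by
      rw [← hiw, hf, ← hU.emb.pow, ← hU.emb.inv, ← hU.emb.mul, ← hU.emb.mul, hk, hU.emb.mul]
    set v := w * f ^ k.val with hvdef
    have hrel2 : v * d * (v * d) * (v * d) = 1 := by
      rw [← hv, ← hid, show elu i * w * (elu i)⁻¹ * (elu i * e * (elu i)⁻¹) * (elu i * w * (elu i)⁻¹ * (elu i * e * (elu i)⁻¹)) *
        (elu i * w * (elu i)⁻¹ * (elu i * e * (elu i)⁻¹)) = elu i * (w * e * (w * e) * (w * e)) * (elu i)⁻¹ by group, hrel]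
      group
    have hvi : v⁻¹ = v := by
      rw [← hv, mul_inv_rev, mul_inv_rev, inv_inv, hwi, mul_assoc]
    have hvdv : v * d * v = d⁻¹ * v * d⁻¹ := by
      have h1 : v * d * v * (d * v * d) = 1 := by rw [← hrel2]; group
      rw [eq_inv_of_mul_eq_one_left h1, mul_inv_rev, mul_inv_rev, hvi, ← mul_assoc]
    have hlhs : w * d * w = f ^ k.val * (v * d * v) * (f ^ k.val)⁻¹ := by
      calc w * d * w = f ^ k.val * ((f ^ k.val)⁻¹ * w) * d * (w * f ^ k.val) * (f ^ k.val)⁻¹ := by group
        _ = f ^ k.val * (v * d * v) * (f ^ k.val)⁻¹ := by rw [← hfp, hvdef]; group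
    refine ⟨f ^ k.val * d⁻¹, mul_mem (pow_mem (mem_sup_right (mem_zpowers f)) _) (mem_sup_left (inv_mem hd)),
      f ^ k.val * d⁻¹ * (f ^ k.val)⁻¹, ?_, ?_⟩
    · exact (mem_normalizer_iff.1 (M.pow_mem hfM _) _).1 (inv_mem hd)
    · calc w * d * w = f ^ k.val * (d⁻¹ * v * d⁻¹) * (f ^ k.val)⁻¹ := by rw [hlhs, hvdv]
        _ = f ^ k.val * d⁻¹ * (w * f ^ k.val) * d⁻¹ * (f ^ k.val)⁻¹ := by rw [hvdef]; group
        _ = _ := by group
  -- the subgroup `K₀`
  let K₀ : Subgroup G :=
    { carrier := {g | g ∈ B ∨ ∃ b ∈ B, ∃ q ∈ (P : Subgroup G), g = b * w * q}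
      one_mem' := Or.inl B.one_mem
      mul_mem' := by
        have hshift : ∀ b ∈ B, ∃ b' ∈ B, ∃ q ∈ (P : Subgroup G), w * b = b' * w * q := by
          intro b hb
          obtain ⟨d, hd, k, rfl⟩ := (hBmem b).1 hb
          refine ⟨(f ^ k)⁻¹, inv_mem (pow_mem (mem_sup_right (mem_zpowers f)) k),
            (f ^ k)⁻¹ * d * f ^ k, ?_, ?_⟩
          · have := (mem_normalizer_iff.1 (inv_mem (M.pow_mem hfM k)) d).1 hd
            rwa [inv_inv] at this
          · rw [← hfp]; group
        rintro x y (hx | ⟨b, hb, q, hq, rfl⟩) (hy | ⟨b', hb', q', hq', rfl⟩)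
        · exact Or.inl (mul_mem hx hy)
        · exact Or.inr ⟨x * b', mul_mem hx hb', q', hq', by group⟩
        · obtain ⟨b₁, hb₁, q₁, hq₁, e₁⟩ := hshift (q * y) (mul_mem (mem_sup_left hq) hy)
          refine Or.inr ⟨b * b₁, mul_mem hb hb₁, q₁, hq₁, ?_⟩
          rw [show b * w * q * y = b * (w * (q * y)) by group, e₁]; group
        · obtain ⟨b₁, hb₁, q₁, hq₁, e₁⟩ := hshift (q * b') (mul_mem (mem_sup_left hq) hb')
          have e2 : b * w * q * (b' * w * q') = b * b₁ * (w * q₁ * w) * q' := by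
            rw [show b * w * q * (b' * w * q') = b * (w * (q * b')) * w * q' by group, e₁]; group
          by_cases hq1 : q₁ = 1
          · refine Or.inl ?_
            rw [e2, hq1, mul_one, hw, mul_one]
            exact mul_mem (mul_mem hb hb₁) (mem_sup_left hq')
          · obtain ⟨b₂, hb₂, q₂, hq₂, e₃⟩ := hkey q₁ hq₁ hq1
            refine Or.inr ⟨b * b₁ * b₂, mul_mem (mul_mem hb hb₁) hb₂, q₂ * q', mul_mem hq₂ hq', ?_⟩
            rw [e2, e₃]; group
      inv_mem' := by
        rintro x (hx | ⟨b, hb, q, hq, rfl⟩)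
        · exact Or.inl (inv_mem hx)
        · obtain ⟨d, hd, k, e₁⟩ := (hBmem _).1 (inv_mem hb)
          refine Or.inr ⟨q⁻¹ * (f ^ k)⁻¹, mul_mem (inv_mem (mem_sup_left hq))
            (inv_mem (pow_mem (mem_sup_right (mem_zpowers f)) k)), (f ^ k)⁻¹ * d * f ^ k, ?_, ?_⟩
          · have := (mem_normalizer_iff.1 (inv_mem (M.pow_mem hfM k)) d).1 hd
            rwa [inv_inv] at this
          · rw [mul_inv_rev, mul_inv_rev, hwi, e₁, show q⁻¹ * (w * (d * f ^ k)) =
              q⁻¹ * (w * f ^ k) * ((f ^ k)⁻¹ * d * f ^ k) by group, hfp]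
            group }
  have hK₀ : ∀ g, g ∈ K₀ ↔ g ∈ B ∨ ∃ b ∈ B, ∃ q ∈ (P : Subgroup G), g = b * w * q := fun g => Iff.rfl
  have hwK : w ∈ K₀ := Or.inr ⟨1, B.one_mem, 1, one_mem _, by group⟩
  -- its order
  have hfo : orderOf f = 4 := by
    refine (orderOf_eq_iff (by norm_num)).2 ⟨hf4, fun m hm hm0 r => ?_⟩
    rw [hf, ← hU.emb.pow, hU.emb.eq_one_iff] at r
    interval_cases m
    · exact hf1 (by rw [← r]; exact (powI_one ifo).symm)
    · rcases hfR with e' | e' | e'
      · exact hf1 e'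
      · exact hft e'
      · rw [powI_two, e'] at r; exact absurd r (by decide +kernel)
    · exact hf1 (powI_three ifo hfR r)
  have hdisj : (P : Subgroup G) ⊓ zpowers f = ⊥ := inf_eq_bot_of_coprime (by
    rw [hPc, Nat.card_zpowers, hfo]; decide)
  have hBc : Nat.card B = 36 := by
    let φ : ↥(P : Subgroup G) × ↥(zpowers f) → B := fun x =>
      ⟨(x.1 : G) * (x.2 : G), mul_mem (mem_sup_left (SetLike.coe_mem x.1)) (mem_sup_right (SetLike.coe_mem x.2))⟩
    have hφ : Function.Bijective φ := by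
      refine ⟨?_, ?_⟩
      · rintro ⟨a, y⟩ ⟨a', y'⟩ r
        have r' : (a : G) * y = a' * y' := congrArg Subtype.val r
        have hm : (a' : G)⁻¹ * a ∈ (P : Subgroup G) ⊓ zpowers f := by
          refine Subgroup.mem_inf.2 ⟨(P : Subgroup G).mul_mem ((P : Subgroup G).inv_mem (SetLike.coe_mem a')) (SetLike.coe_mem a), ?_⟩
          rw [show (a' : G)⁻¹ * a = y' * (y : G)⁻¹ from
            eq_mul_inv_of_mul_eq (by rw [mul_assoc, r', inv_mul_cancel_left])]
          exact (zpowers f).mul_mem (SetLike.coe_mem y') ((zpowers f).inv_mem (SetLike.coe_mem y))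
        rw [hdisj, mem_bot, inv_mul_eq_one] at hm
        rw [hm] at r'
        exact Prod.ext (Subtype.ext hm.symm) (Subtype.ext (mul_left_cancel r'))
      · rintro ⟨b, hb⟩
        obtain ⟨d, hd, k, rfl⟩ := (hBmem b).1 hb
        exact ⟨(⟨d, hd⟩, ⟨f ^ k, pow_mem (mem_zpowers f) k⟩), rfl⟩
    rw [← Nat.card_congr (Equiv.ofBijective φ hφ), Nat.card_prod, hPc, Nat.card_zpowers, hfo]
  have hnotB : ∀ b ∈ B, ∀ q ∈ (P : Subgroup G), b * w * q ∉ M := fun b hb q hq hm => hwM (by
    have := mul_mem (mul_mem (inv_mem (hBM hb)) hm) (inv_mem (hBM (mem_sup_left hq)))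
    rwa [show b⁻¹ * (b * w * q) * q⁻¹ = w by group] at this)
  have hKc : Nat.card K₀ = 360 := by
    let φ : ↥B ⊕ (↥B × ↥(P : Subgroup G)) → K₀ := fun x => match x with
      | Sum.inl b => ⟨b, Or.inl b.2⟩
      | Sum.inr (b, q) => ⟨b * w * q, Or.inr ⟨b, b.2, q, q.2, rfl⟩⟩
    have hφ : Function.Bijective φ := by
      refine ⟨?_, ?_⟩
      · rintro (a | ⟨a, q⟩) (a' | ⟨a', q'⟩) r <;> have r' := congrArg Subtype.val r <;> simp only [φ] at r'
        · exact congrArg Sum.inl (Subtype.ext r')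
        · exact absurd (r' ▸ hBM a.2) (hnotB a' a'.2 q' q'.2)
        · exact absurd (r'.symm ▸ hBM a'.2) (hnotB a a.2 q q.2)
        · have hq : q = q' := by
            by_contra hne
            obtain ⟨b₂, hb₂, q₂, hq₂, e₃⟩ := hkey ((q : G) * (q' : G)⁻¹) (mul_mem q.2 (inv_mem q'.2))
              (fun z => hne (Subtype.ext (mul_inv_eq_one.1 z)))
            have h1 : w * ((q : G) * (q' : G)⁻¹) * w = (a : G)⁻¹ * a' := by
              calc w * ((q : G) * (q' : G)⁻¹) * w = (a : G)⁻¹ * ((a : G) * w * q) * (q' : G)⁻¹ * w := by group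
                _ = (a : G)⁻¹ * a' * (w * w) := by rw [r']; group
                _ = (a : G)⁻¹ * a' := by rw [hw, mul_one]
            exact hnotB b₂ hb₂ q₂ hq₂ (hBM (e₃.symm.trans h1 ▸ mul_mem (inv_mem a.2) a'.2))
          subst hq
          have : (a : G) = a' := mul_right_cancel (mul_right_cancel r')
          rw [Subtype.ext this]
      · rintro ⟨g, hg | ⟨b, hb, q, hq, rfl⟩⟩
        · exact ⟨Sum.inl ⟨g, hg⟩, rfl⟩
        · exact ⟨Sum.inr (⟨b, hb⟩, ⟨q, hq⟩), rfl⟩
    rw [← Nat.card_congr (Equiv.ofBijective φ hφ), Nat.card_sum, Nat.card_prod, hBc, hPc]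
  -- an element normalising it
  set r := elu r₀ with hr
  have hrM : r ∈ M := hRN _ hr₀
  have hri : r⁻¹ = elu (invI r₀) := (hU.emb.inv r₀).symm
  have hrf : r * f * r⁻¹ ∈ B := by
    obtain ⟨m, hm⟩ := (hfconj r₀ hr₀).1
    rw [hr, hf, ← hU.emb.inv, ← hU.emb.mul, ← hU.emb.mul, hm, hU.emb.pow]
    exact pow_mem (mem_sup_right (mem_zpowers f)) _
  have hrB : ∀ b ∈ B, r * b * r⁻¹ ∈ B := by
    intro b hb
    obtain ⟨d, hd, k, rfl⟩ := (hBmem b).1 hb
    rw [show r * (d * f ^ k) * r⁻¹ = (r * d * r⁻¹) * (r * f ^ k * r⁻¹) by group, ← conj_pow]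
    exact mul_mem (mem_sup_left ((mem_normalizer_iff.1 hrM d).1 hd)) (pow_mem hrf k)
  have hrK : ∀ g ∈ K₀, r * g * r⁻¹ ∈ K₀ := by
    rintro g (hg | ⟨b, hb, q, hq, rfl⟩)
    · exact Or.inl (hrB g hg)
    · obtain ⟨k, hk⟩ := (hfconj r₀ hr₀).2
      have hrw : r * w * r⁻¹ = w * f ^ k.val := by
        rw [hr, ← hiw, hf, ← hU.emb.pow, ← hU.emb.inv, ← hU.emb.mul, ← hU.emb.mul, hk, hU.emb.mul]
      rw [show r * (b * w * q) * r⁻¹ = (r * b * r⁻¹) * (r * w * r⁻¹) * (r * q * r⁻¹) by group, hrw]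
      exact K₀.mul_mem (K₀.mul_mem (Or.inl (hrB b hb)) (K₀.mul_mem hwK
        (Or.inl (pow_mem (mem_sup_right (mem_zpowers f)) _))))
        (Or.inl (mem_sup_left ((mem_normalizer_iff.1 hrM q).1 hq)))
  have hrN : r ∈ normalizer (K₀ : Set G) := by
    rw [mem_normalizer_iff_map_conj_eq]
    refine eq_of_le_of_card_ge ?_ (le_of_eq (Nat.card_congr (K₀.equivMapOfInjective _ (MulAut.conj r).injective).toEquiv))
    rintro _ ⟨g, hg, rfl⟩
    exact hrK g hg
  have hrnot : r ∉ K₀ := by
    rintro (hb | ⟨b, hb, q, hq, hbq⟩)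
    · obtain ⟨d, hd, k, hdk⟩ := (hBmem r).1 hb
      have hd1 : d = 1 := by
        have h48 : orderOf d ∣ 48 := by
          rw [← hU.emb.card_centralizer, ← Nat.card_zpowers]
          refine card_dvd_of_le (zpowers_le.2 ?_)
          rw [show d = r * (f ^ k)⁻¹ by rw [hdk]; group]
          exact mul_mem ((hU.emb.mem _).2 ⟨r₀, rfl⟩) (inv_mem (pow_mem ((hU.emb.mem _).2 ⟨ifo, rfl⟩) k))
        by_contra hd1
        have ho := orderOf_eq_prime (hexp d hd) hd1
        have hdu : Commute d u := by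
          rw [show d = r * (f ^ k)⁻¹ by rw [hdk]; group]
          exact (show Commute r u from hU.emb.commute_t r₀).mul_left
            ((show Commute f u from hU.emb.commute_t ifo).pow_left k).inv_left
        have := hinv d hd
        rw [show u * d * u = d * (u * u) by rw [← hdu.eq, mul_assoc], hU.emb.t_invol.1, mul_one] at this
        have h2 : d * d = 1 := by nth_rewrite 1 [this]; exact inv_mul_cancel d
        have h3 := hexp d hd
        rw [pow_succ, pow_two, h2, one_mul] at h3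
        exact hd1 h3
      rw [hd1, one_mul, hr, hf, ← pow_mod_orderOf, hfo, ← hU.emb.pow] at hdk
      exact hr₀f ⟨k % 4, Nat.mod_lt _ (by norm_num)⟩ (hU.emb.inj hdk)
    · exact hnotB b hb q hq (hbq ▸ hrM)
  refine ⟨normalizer (K₀ : Set G), ?_⟩
  have hlt : K₀ < normalizer (K₀ : Set G) := lt_of_le_of_ne le_normalizer fun z => hrnot (z.symm ▸ hrN)
  obtain ⟨m, hm⟩ := hKc ▸ card_dvd_of_le hlt.le
  have hmul := (normalizer (K₀ : Set G)).index_mul_card
  rw [hm, h.card] at hmul
  have hm1 : m ≠ 1 := fun z => by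
    refine hlt.ne (eq_of_le_of_card_ge hlt.le ?_)
    rw [hm, z, mul_one, hKc]
  have hd : (normalizer (K₀ : Set G)).index ∣ 22 := ⟨m, by nlinarith⟩
  have hne1 : (normalizer (K₀ : Set G)).index ≠ 1 := fun z => by
    haveI : K₀.Normal := normalizer_eq_top_iff.1 (index_eq_one.1 z)
    exact h.not_top (S := K₀) (by omega) (by omega)
  have hne2 := h.no2 (normalizer (K₀ : Set G))
  have hle : (normalizer (K₀ : Set G)).index ≤ 22 := Nat.le_of_dvd (by norm_num) hd
  generalize (normalizer (K₀ : Set G)).index = n at *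
  interval_cases n <;> omega

end CfsgLib.Char.MEleven
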