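import Cfsg.Agent.Lib.Char.GLThreeCent.Model

/-!
# Facts about the coded `GL(2,3)` used for the uniqueness of `M₁₁`
-/

set_option autoImplicit false
set_option linter.all false

namespace CfsgLib.Char.MEleven

open CfsgLib.Char.GLThreeCent

/-- The quaternion subgroup. -/
def inR (i : Fin 48) : Prop := i = oneI ∨ i = tI ∨ mulI i i = tI

instance (i : Fin 48) : Decidable (inR i) := by unfold inR; infer_instance

theorem card_inR : Fintype.card {i // inR i} = 8 := by decide +kernel

theorem inR_mul : ∀ i j, inR i → inR j → inR (mulI i j) := by decide +kernel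

theorem inR_inv : ∀ i, inR i → inR (invI i) := by decide +kernel

theorem inR_conj : ∀ i j, inR j → inR (mulI (mulI i j) (invI i)) := by decide +kernel

theorem inR_inP : ∀ i, inR i → inP i := by decide +kernel

theorem inR_t : ∀ i, inR i → i ≠ oneI → ∃ k : Fin 3, powI i k.val = tI := by decide +kernel

theorem exists_u : ∀ i, isInv i → i ≠ tI →
    ∃ k, isInv k ∧ k ≠ tI ∧ k ≠ i ∧ k ≠ mulI tI i ∧ mulI (mulI k i) k = mulI tI i := by decide +kernel

theorem ju_type : ∀ j a w : Fin 48, isInv j → j ≠ tI → isInv w → w ≠ tI → a ≠ oneI → powI a 3 = oneI →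
    mulI (mulI j a) j = invI a →
    ∃ k : Fin 3, mulI (mulI (powI a k.val) w) (invI (powI a k.val)) = j ∨
      mulI (mulI (powI a k.val) w) (invI (powI a k.val)) = mulI tI j ∨
      mulI (mulI j (mulI (mulI (powI a k.val) w) (invI (powI a k.val)))) j =
        mulI tI (mulI (mulI (powI a k.val) w) (invI (powI a k.val))) := by
  decide +kernel

theorem exists_f : ∀ w, isInv w → w ≠ tI → ∃ f, inR f ∧ f ≠ oneI ∧ f ≠ tI ∧ mulI (mulI w f) w = invI f ∧
    (∀ r, inR r → (∃ m : Fin 4, mulI (mulI r f) (invI r) = powI f m.val) ∧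
      ∃ k : Fin 4, mulI (mulI r w) (invI r) = mulI w (powI f k.val)) ∧
    ∃ r, inR r ∧ ∀ k : Fin 4, r ≠ powI f k.val := by
  decide +kernel

theorem comm_xI_two : ∀ i : Fin 48, mulI i (⟨codes.idxOf 31, by decide +kernel⟩ : Fin 48) =
    mulI (⟨codes.idxOf 31, by decide +kernel⟩ : Fin 48) i → powI i 16 = oneI → i = oneI ∨ i = tI := by
  decide +kernel

theorem comm_sI_cases : ∀ i : Fin 48, mulI i (⟨codes.idxOf 29, by decide +kernel⟩ : Fin 48) =
    mulI (⟨codes.idxOf 29, by decide +kernel⟩ : Fin 48) i → i = oneI ∨ i = tI ∨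
    i = (⟨codes.idxOf 29, by decide +kernel⟩ : Fin 48) ∨ i = mulI tI (⟨codes.idxOf 29, by decide +kernel⟩ : Fin 48) := by
  decide +kernel

theorem powI_one : ∀ i : Fin 48, powI i 1 = i := by decide +kernel

theorem powI_two : ∀ i : Fin 48, powI i 2 = mulI i i := by decide +kernel

theorem powI_three : ∀ i : Fin 48, inR i → powI i 3 = oneI → i = oneI := by decide +kernel

end CfsgLib.Char.MEleven
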