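import Cfsg.Agent.Lib.Char.LThreeThree.Simple
import Cfsg.Agent.Lib.Char.LThreeThree.Local
import Cfsg.Agent.Lib.Char.MEleven.Model

/-!
# Local structure of a group of order 7920 with an involution centraliser `GL(2,3)`
-/

set_option autoImplicit false
set_option linter.all false

open Subgroup

namespace CfsgLib.Char.MEleven

open CfsgLib.Char.GLThreeCent CfsgLib.Char.LThreeThree

/-- The hypotheses. -/
structure MHyp {G : Type*} [Group G] (t : G) (el : Fin 48 → G) : Prop where
  emb : Emb t el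
  card : Nat.card G = 7920
  no2 : ∀ H : Subgroup G, H.index ≠ 2

variable {G : Type*} [Group G] [Finite G] {t : G} {el : Fin 48 → G}

theorem MHyp.simple (h : MHyp t el) : IsSimpleGroup G := isSimple h.emb h.no2

theorem MHyp.invol_conj (h : MHyp t el) {u : G} (hu : orderOf u = 2) : ∃ g : G, g * u * g⁻¹ = t := by
  obtain ⟨g, hg⟩ := isConj_iff.1 (h.emb.isConj_invol h.no2 u (CfsgLib.Invol.invol_mul_self hu)
    (CfsgLib.Invol.invol_ne_one hu)).symm
  exact ⟨g, hg⟩

theorem MHyp.card_invol (h : MHyp t el) {u : G} (hu : orderOf u = 2) :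
    Nat.card (centralizer ({u} : Set G)) = 48 := by
  obtain ⟨g, hg⟩ := h.invol_conj hu
  rw [← h.emb.card_centralizer, ← hg, LThreeThree.card_centralizer_conj]

/-- Any involution carries the coded centraliser. -/
theorem MHyp.exists_emb_at (h : MHyp t el) {u : G} (hu : orderOf u = 2) : ∃ elu : Fin 48 → G, MHyp u elu := by
  obtain ⟨g, hg⟩ := h.invol_conj hu
  have hu' : u = g⁻¹ * t * g := by rw [← hg]; group
  refine ⟨fun i => g⁻¹ * el i * g, ⟨fun i j e => h.emb.inj (mul_left_cancel (mul_right_cancel e)), fun i j => by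
    rw [h.emb.mul]; group, fun x => ?_, by rw [h.emb.map_t, hu']⟩, h.card, h.no2⟩
  rw [mem_centralizer_singleton_iff, hu']
  constructor
  · intro hx
    obtain ⟨i, hi⟩ := (h.emb.mem (g * x * g⁻¹)).1 (mem_centralizer_singleton_iff.2 (by
      calc g * x * g⁻¹ * t = g * (x * (g⁻¹ * t * g)) * g⁻¹ := by group
        _ = g * (g⁻¹ * t * g * x) * g⁻¹ := by rw [hx]
        _ = t * (g * x * g⁻¹) := by group))
    exact ⟨i, show g⁻¹ * el i * g = x by rw [hi]; group⟩
  · rintro ⟨i, rfl⟩
    calc g⁻¹ * el i * g * (g⁻¹ * t * g) = g⁻¹ * (el i * t) * g := by group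
      _ = g⁻¹ * (t * el i) * g := by rw [h.emb.commute_t]
      _ = g⁻¹ * t * g * (g⁻¹ * el i * g) := by group

theorem MHyp.not_top (h : MHyp t el) {S : Subgroup G} [S.Normal] (h1 : 1 < Nat.card S)
    (h2 : Nat.card S < 7920) : False := by
  haveI := h.simple
  rcases Normal.eq_bot_or_eq_top (H := S) inferInstance with e | e
  · rw [e, card_bot] at h1; omega
  · rw [e, card_top, h.card] at h2; omega

/-- The index of the centraliser in the normaliser of a subgroup of prime order. -/
theorem relIndex_dvd {p : ℕ} [Fact p.Prime] {S : Subgroup G} (hS : Nat.card S = p) :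
    ∃ k, k ∣ p - 1 ∧ Nat.card (centralizer (S : Set G)) * k = Nat.card (normalizer (S : Set G)) := by
  haveI : IsCyclic S := isCyclic_of_prime_card hS
  refine ⟨((centralizer (S : Set G)).subgroupOf (normalizer (S : Set G))).index, ?_, ?_⟩
  · have h1 := card_subgroup_dvd_card (normalizerMonoidHom S).range
    rw [← index_ker, normalizerMonoidHom_ker, IsCyclic.card_mulAut, hS, Nat.totient_prime Fact.out] at h1
    exact h1
  · have := ((centralizer (S : Set G)).subgroupOf (normalizer (S : Set G))).card_mul_index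
    rwa [Nat.card_congr (subgroupOfEquivOfLe (centralizer_le_normalizer _)).toEquiv] at this

theorem MHyp.odd_cent (h : MHyp t el) {y : G} {p : ℕ} (hy : orderOf y = p) (hp : ¬ p ∣ 48) :
    ¬ 2 ∣ Nat.card (centralizer ({y} : Set G)) := by
  haveI : Fact (Nat.Prime 2) := ⟨Nat.prime_two⟩
  intro hd
  obtain ⟨u, hu⟩ := exists_prime_orderOf_dvd_card' (G := centralizer ({y} : Set G)) 2 hd
  refine hp ?_
  rw [← h.card_invol (u := (u : G)) (by rw [Subgroup.orderOf_coe, hu]), ← hy, ← Nat.card_zpowers]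
  exact card_dvd_of_le (zpowers_le.2 (mem_centralizer_singleton_iff.2 (mem_centralizer_singleton_iff.1 u.2).symm))

theorem MHyp.sylow_of_order (h : MHyp t el) {p : ℕ} [hp : Fact p.Prime] (hv : (7920 : ℕ).factorization p = 1)
    {y : G} (hy : orderOf y = p) :
    ∃ S : Sylow p G, (S : Subgroup G) = zpowers y ∧ Nat.card (S : Subgroup G) = p ∧
      centralizer ({y} : Set G) = centralizer ((S : Subgroup G) : Set G) := by
  obtain ⟨S, hS⟩ := (IsPGroup.of_card (n := 1) (by rw [Nat.card_zpowers, hy, pow_one]) :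
    IsPGroup p (zpowers y)).exists_le_sylow
  have hc : Nat.card (S : Subgroup G) = p := by rw [S.card_eq_multiplicity, h.card, hv, pow_one]
  have he : (S : Subgroup G) = zpowers y := (eq_of_le_of_card_ge hS (by rw [Nat.card_zpowers, hy, hc])).symm
  exact ⟨S, he, hc, by rw [he, zpowers_eq_closure, centralizer_closure]⟩

theorem MHyp.no_transfer (h : MHyp t el) {p : ℕ} [Fact p.Prime] (S : Sylow p G)
    (hS : Nat.card (S : Subgroup G) = p) (hp : p < 100)
    (heq : Nat.card (normalizer ((S : Subgroup G) : Set G)) = Nat.card (centralizer ((S : Subgroup G) : Set G))) :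
    False := by
  have hle : normalizer ((S : Subgroup G) : Set G) ≤ centralizer ((S : Subgroup G) : Set G) :=
    (eq_of_le_of_card_ge (centralizer_le_normalizer _) heq.le).ge
  have hc := (MonoidHom.ker_transferSylow_isComplement' S hle).card_mul
  rw [hS, h.card] at hc
  have hp1 := (Fact.out : p.Prime).two_le
  refine h.not_top (S := (MonoidHom.transferSylow S hle).ker) ?_ ?_ <;> nlinarith

theorem fac_eleven : (7920 : ℕ).factorization 11 = 1 := by
  rw [show (7920 : ℕ) = 11 ^ 1 * 720 by norm_num, Nat.factorization_mul (by norm_num) (by norm_num),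
    (show Nat.Prime 11 by norm_num).factorization_pow]
  simp [Nat.factorization_eq_zero_of_not_dvd (show ¬ 11 ∣ 720 by norm_num)]

theorem fac_five : (7920 : ℕ).factorization 5 = 1 := by
  rw [show (7920 : ℕ) = 5 ^ 1 * 1584 by norm_num, Nat.factorization_mul (by norm_num) (by norm_num),
    (show Nat.Prime 5 by norm_num).factorization_pow]
  simp [Nat.factorization_eq_zero_of_not_dvd (show ¬ 5 ∣ 1584 by norm_num)]

theorem arith_eleven : ∀ n < 721, n ∣ 720 → n % 11 = 1 % 11 → n = 1 ∨ n = 12 ∨ n = 45 ∨ n = 144 := by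
  decide +kernel

theorem arith_five : ∀ n < 1585, n ∣ 1584 → n % 5 = 1 % 5 →
    n = 1 ∨ 7920 / n = 20 ∨ 7920 / n % 2 = 1 ∨ ¬ 7920 / n ∣ 180 := by
  decide +kernel

theorem MHyp.cent_eleven (h : MHyp t el) {y : G} (hy : orderOf y = 11) :
    Nat.card (centralizer ({y} : Set G)) = 11 ∧
      Nat.card (normalizer ((zpowers y : Subgroup G) : Set G)) = 55 := by
  haveI : Fact (Nat.Prime 11) := ⟨by norm_num⟩
  obtain ⟨S, hSe, hSc, hC⟩ := h.sylow_of_order fac_eleven hy
  have hodd := h.odd_cent hy (by norm_num)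
  obtain ⟨k, hk, hCk⟩ := relIndex_dvd hSc
  have hyC : 11 ∣ Nat.card (centralizer ({y} : Set G)) := by
    rw [← hy, ← Nat.card_zpowers]
    exact card_dvd_of_le (zpowers_le.2 (mem_centralizer_singleton_iff.2 rfl))
  have hidx : Nat.card (Sylow 11 G) * Nat.card (normalizer ((S : Subgroup G) : Set G)) = 7920 := by
    rw [S.card_eq_index_normalizer, ← h.card]; exact index_mul_card _
  have hd := S.card_dvd_index
  have h720 : (S : Subgroup G).index = 720 := by
    have := (S : Subgroup G).index_mul_card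
    rw [hSc, h.card] at this
    omega
  rw [h720] at hd
  rw [← hC] at hCk
  have hk10 : k = 1 ∨ k = 2 ∨ k = 5 ∨ k = 10 := by
    have := Nat.le_of_dvd (by norm_num) hk
    interval_cases k <;> omega
  rcases arith_eleven _ (Nat.lt_succ_of_le (Nat.le_of_dvd (by norm_num) hd)) hd (card_sylow_modEq_one 11 G)
    with e | e | e | e
  · exfalso
    rw [S.card_eq_index_normalizer, index_eq_one] at e
    haveI : (S : Subgroup G).Normal := normalizer_eq_top_iff.1 e
    exact h.not_top (S := (S : Subgroup G)) (by omega) (by omega)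
  · exfalso
    rw [e] at hidx
    rcases hk10 with rfl | rfl | rfl | rfl <;> omega
  · exfalso
    rw [e] at hidx
    rcases hk10 with rfl | rfl | rfl | rfl <;> omega
  · rw [e] at hidx
    rw [hSe] at hidx hCk
    have hN : Nat.card (normalizer ((zpowers y : Subgroup G) : Set G)) = 55 := by omega
    rw [hN] at hCk
    refine ⟨?_, hN⟩
    rcases hk10 with rfl | rfl | rfl | rfl
    · exact (h.no_transfer S hSc (by norm_num) (by rw [← hC, hSe, hN]; omega)).elim
    · omega
    · omega
    · omega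

theorem MHyp.cent_five (h : MHyp t el) {y : G} (hy : orderOf y = 5) :
    Nat.card (centralizer ({y} : Set G)) = 5 ∧
      Nat.card (normalizer ((zpowers y : Subgroup G) : Set G)) = 20 := by
  haveI : Fact (Nat.Prime 5) := ⟨by norm_num⟩
  obtain ⟨S, hSe, hSc, hC⟩ := h.sylow_of_order fac_five hy
  have hodd := h.odd_cent hy (by norm_num)
  obtain ⟨k, hk, hCk⟩ := relIndex_dvd hSc
  rw [← hC] at hCk
  set c := Nat.card (centralizer ({y} : Set G)) with hc
  have hyC : 5 ∣ c := by
    rw [hc, ← hy, ← Nat.card_zpowers]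
    exact card_dvd_of_le (zpowers_le.2 (mem_centralizer_singleton_iff.2 rfl))
  have h11 : ¬ 11 ∣ c := by
    haveI : Fact (Nat.Prime 11) := ⟨by norm_num⟩
    intro hd
    obtain ⟨z, hz⟩ := exists_prime_orderOf_dvd_card' (G := centralizer ({y} : Set G)) 11 hd
    have hz' : orderOf (z : G) = 11 := by rw [Subgroup.orderOf_coe, hz]
    have h5 : 5 ∣ Nat.card (centralizer ({(z : G)} : Set G)) := by
      rw [← hy, ← Nat.card_zpowers]
      exact card_dvd_of_le (zpowers_le.2 (mem_centralizer_singleton_iff.2 (mem_centralizer_singleton_iff.1 z.2).symm))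
    rw [(h.cent_eleven hz').1] at h5
    norm_num at h5
  have hc45 : c ∣ 45 := by
    have hd : c ∣ 7920 := h.card ▸ card_subgroup_dvd_card _
    have h1 : c ∣ 45 * 11 := (Nat.Coprime.dvd_of_dvd_mul_right
      ((Nat.prime_two.coprime_iff_not_dvd.2 hodd).symm.pow_right 4) (show c ∣ 45 * 11 * 2 ^ 4 from hd))
    exact ((show Nat.Prime 11 by norm_num).coprime_iff_not_dvd.2 h11).symm.dvd_of_dvd_mul_right h1
  have hidx : Nat.card (Sylow 5 G) * Nat.card (normalizer ((S : Subgroup G) : Set G)) = 7920 := by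
    rw [S.card_eq_index_normalizer, ← h.card]; exact index_mul_card _
  have hd := S.card_dvd_index
  have h1584 : (S : Subgroup G).index = 1584 := by
    have := (S : Subgroup G).index_mul_card
    rw [hSc, h.card] at this
    omega
  rw [h1584] at hd
  have hN : Nat.card (normalizer ((S : Subgroup G) : Set G)) = 7920 / Nat.card (Sylow 5 G) := by
    rw [← hidx, Nat.mul_div_cancel_left _ Nat.card_pos]
  have hk4 : k = 1 ∨ k = 2 ∨ k = 4 := by
    have := Nat.le_of_dvd (by norm_num) hk
    interval_cases k <;> omega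
  rcases arith_five _ (Nat.lt_succ_of_le (Nat.le_of_dvd (by norm_num) hd)) hd (card_sylow_modEq_one 5 G)
    with e | e | e | e
  · exfalso
    rw [S.card_eq_index_normalizer, index_eq_one] at e
    haveI : (S : Subgroup G).Normal := normalizer_eq_top_iff.1 e
    exact h.not_top (S := (S : Subgroup G)) (by omega) (by omega)
  · rw [e] at hN
    have hcd : c ∣ 20 := ⟨k, by omega⟩
    have : c ∣ Nat.gcd 45 20 := Nat.dvd_gcd hc45 hcd
    rw [show Nat.gcd 45 20 = 5 from rfl] at this
    exact ⟨Nat.dvd_antisymm this hyC, hSe ▸ hN⟩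
  · exfalso
    rcases hk4 with rfl | rfl | rfl
    · exact h.no_transfer S hSc (by norm_num) (by rw [← hC]; omega)
    · omega
    · omega
  · exfalso
    refine e (hN ▸ ?_)
    rw [← hCk]
    exact (Nat.mul_dvd_mul hc45 hk : c * k ∣ 45 * 4)

theorem MHyp.cent_three_dvd (h : MHyp t el) {z : G} (hz : orderOf z = 3) :
    Nat.card (centralizer ({z} : Set G)) ∣ 2 ^ 4 * 3 ^ 2 := by
  have hno : ∀ p : ℕ, (p = 5 ∨ p = 11) → ¬ p ∣ Nat.card (centralizer ({z} : Set G)) := by
    intro p hp hd
    haveI : Fact p.Prime := ⟨by rcases hp with rfl | rfl <;> norm_num⟩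
    obtain ⟨w, hw⟩ := exists_prime_orderOf_dvd_card' (G := centralizer ({z} : Set G)) p hd
    have hw' : orderOf (w : G) = p := by rw [Subgroup.orderOf_coe, hw]
    have h3 : 3 ∣ Nat.card (centralizer ({(w : G)} : Set G)) := by
      rw [← hz, ← Nat.card_zpowers]
      exact card_dvd_of_le (zpowers_le.2 (mem_centralizer_singleton_iff.2 (mem_centralizer_singleton_iff.1 w.2).symm))
    rcases hp with rfl | rfl
    · rw [(h.cent_five hw').1] at h3; norm_num at h3
    · rw [(h.cent_eleven hw').1] at h3; norm_num at h3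
  have hd : Nat.card (centralizer ({z} : Set G)) ∣ 2 ^ 4 * 3 ^ 2 * 5 * 11 := by
    refine (card_subgroup_dvd_card _).trans ?_
    rw [h.card]; norm_num
  exact ((show Nat.Prime 5 by norm_num).coprime_iff_not_dvd.2 (hno 5 (Or.inl rfl))).symm.dvd_of_dvd_mul_right
    (((show Nat.Prime 11 by norm_num).coprime_iff_not_dvd.2 (hno 11 (Or.inr rfl))).symm.dvd_of_dvd_mul_right hd)

theorem MHyp.card_sylow_three (h : MHyp t el) (P : Sylow 3 G) : Nat.card (P : Subgroup G) = 9 := by
  haveI : Fact (Nat.Prime 3) := ⟨Nat.prime_three⟩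
  rw [P.card_eq_multiplicity, h.card, show (7920 : ℕ) = 3 ^ 2 * 880 by norm_num,
    Nat.factorization_mul (by norm_num) (by norm_num), Nat.prime_three.factorization_pow]
  simp [Nat.factorization_eq_zero_of_not_dvd (show ¬ 3 ∣ 880 by norm_num)]

theorem sylow_comm {P : Subgroup G} (hP : Nat.card P = 9) {a b : G} (ha : a ∈ P) (hb : b ∈ P) : a * b = b * a := by
  haveI : Fact (Nat.Prime 3) := ⟨Nat.prime_three⟩
  exact congrArg Subtype.val
    ((IsPGroup.isMulCommutative_of_card_eq_prime_sq (G := P) (p := 3) (by rw [hP]; norm_num)).is_comm.comm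
      ⟨a, ha⟩ ⟨b, hb⟩)

theorem MHyp.cent_x (h : MHyp t el) : Nat.card (centralizer ({el xI} : Set G)) = 18 := by
  classical
  haveI : Fact (Nat.Prime 2) := ⟨Nat.prime_two⟩
  haveI : Fact (Nat.Prime 3) := ⟨Nat.prime_three⟩
  have hx : orderOf (el xI) = 3 := orderOf_eq_prime (by rw [← h.emb.pow, xI_facts.1, h.emb.one])
    (fun e => xI_facts.2.1 (h.emb.eq_one_iff.1 e))
  have ht : orderOf t = 2 := orderOf_eq_prime (by rw [pow_two]; exact h.emb.t_invol.1) h.emb.t_invol.2
  set C := centralizer ({el xI} : Set G) with hC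
  have htC : t ∈ C := mem_centralizer_singleton_iff.2 (h.emb.commute_t xI).symm
  have hd := h.cent_three_dvd hx
  obtain ⟨T, hT⟩ := (IsPGroup.of_card (n := 1) (by rw [Nat.card_zpowers, Subgroup.orderOf_mk, ht, pow_one]) :
    IsPGroup 2 (zpowers (⟨t, htC⟩ : C))).exists_le_sylow
  have htT : (⟨t, htC⟩ : C) ∈ (T : Subgroup C) := hT (mem_zpowers _)
  have hsmall : ∀ u ∈ (T : Subgroup C), Commute (u : G) t → u = 1 ∨ (u : G) = t := by
    intro u hu hc
    obtain ⟨i, hi⟩ := (h.emb.mem (u : G)).1 (mem_centralizer_singleton_iff.2 hc.eq)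
    obtain ⟨k, hk⟩ := IsPGroup.iff_orderOf.1 T.2 ⟨u, hu⟩
    rw [Subgroup.orderOf_mk] at hk
    have hcx : mulI i xI = mulI xI i := h.emb.inj (by
      rw [h.emb.mul, h.emb.mul, hi]
      exact mem_centralizer_singleton_iff.1 u.2)
    have h16 : powI i 16 = oneI := h.emb.inj (by
      rw [h.emb.pow, h.emb.one, hi]
      refine orderOf_dvd_iff_pow_eq_one.1 ?_
      have h1 : orderOf (u : G) ∣ 2 ^ 4 * 3 := by
        rw [show 2 ^ 4 * 3 = 48 from rfl, ← h.emb.card_centralizer, ← Nat.card_zpowers]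
        exact card_dvd_of_le (zpowers_le.2 (mem_centralizer_singleton_iff.2 hc.eq))
      rw [Subgroup.orderOf_coe, hk] at h1 ⊢
      exact (Nat.Coprime.pow_left k (by norm_num : Nat.Coprime 2 3)).dvd_of_dvd_mul_right h1)
    rcases comm_xI_two i hcx h16 with e | e
    · left; rw [e, h.emb.one] at hi; exact Subtype.ext hi.symm
    · right; rw [e, h.emb.map_t] at hi; exact hi.symm
  have hT2 : (T : Subgroup C) = zpowers (⟨t, htC⟩ : C) := by
    by_contra hne
    haveI : Group.IsNilpotent (T : Subgroup C) := T.2.isNilpotent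
    let Z : Subgroup (T : Subgroup C) := zpowers ⟨⟨t, htC⟩, htT⟩
    have hZ : Z < ⊤ := by
      refine lt_top_iff_ne_top.2 fun e => hne (le_antisymm (fun v hv => ?_) hT)
      have : (⟨v, hv⟩ : (T : Subgroup C)) ∈ Z := e ▸ mem_top _
      obtain ⟨k, hk⟩ := mem_zpowers_iff.1 this
      exact mem_zpowers_iff.2 ⟨k, congrArg Subtype.val hk⟩
    obtain ⟨v, hvN, hvZ⟩ := SetLike.exists_of_lt (Group.normalizerCondition_of_isNilpotent Z hZ)
    refine hvZ ?_
    have h1 := (mem_normalizer_iff.1 hvN ⟨⟨t, htC⟩, htT⟩).1 (mem_zpowers _)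
    obtain ⟨k, hk⟩ := mem_zpowers_iff.1 h1
    have hk' : t ^ k = ((v : C) : G) * t * ((v : C) : G)⁻¹ :=
      congrArg (fun w : (T : Subgroup C) => ((w : C) : G)) hk
    have hc : Commute ((v : C) : G) t := by
      rcases Int.emod_two_eq_zero_or_one k with hk2 | hk2 <;>
        rw [← zpow_mod_orderOf, ht, show k % ((2 : ℕ) : ℤ) = k % 2 from rfl, hk2] at hk'
      · rw [zpow_zero, eq_comm, conj_eq_one_iff] at hk'
        exact absurd hk' h.emb.t_invol.2
      · rw [zpow_one] at hk'
        exact (eq_mul_inv_iff_mul_eq.1 hk').symm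
    rcases hsmall v v.2 hc with e | e
    · rw [show v = 1 from Subtype.ext e]; exact one_mem _
    · rw [show v = ⟨⟨t, htC⟩, htT⟩ from Subtype.ext (Subtype.ext e)]; exact mem_zpowers _
  have hf2 : (Nat.card C).factorization 2 = 1 := by
    have := T.card_eq_multiplicity
    rw [hT2, Nat.card_zpowers, Subgroup.orderOf_mk, ht] at this
    exact (Nat.pow_right_injective (le_refl 2) (this.symm.trans (pow_one 2).symm))
  obtain ⟨P, hP⟩ := (IsPGroup.of_card (n := 1) (by rw [Nat.card_zpowers, hx, pow_one]) :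
    IsPGroup 3 (zpowers (el xI))).exists_le_sylow
  have h9 : 9 ∣ Nat.card C := h.card_sylow_three P ▸ card_dvd_of_le fun p hp =>
    mem_centralizer_singleton_iff.2 (sylow_comm (h.card_sylow_three P) hp (hP (mem_zpowers _)))
  obtain ⟨m, hm⟩ := h9
  have hm16 : m ∣ 2 ^ 4 := by
    have : 9 * m ∣ 9 * 2 ^ 4 := hm ▸ (show Nat.card C ∣ 9 * 2 ^ 4 by rw [show 9 * 2 ^ 4 = 2 ^ 4 * 3 ^ 2 by norm_num]; exact hd)
    exact (Nat.mul_dvd_mul_iff_left (by norm_num : 0 < 9)).1 this
  obtain ⟨j, hj, rfl⟩ := (Nat.dvd_prime_pow Nat.prime_two).1 hm16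
  rw [hm, Nat.factorization_mul (by norm_num) (by positivity), Nat.prime_two.factorization_pow,
    show (9 : ℕ) = 3 ^ 2 by norm_num, Nat.prime_three.factorization_pow] at hf2
  simp at hf2
  rw [hm, hf2]; norm_num

theorem MHyp.exists_conj_x (h : MHyp t el) {z u : G} (hz : orderOf z = 3) (hu : orderOf u = 2)
    (hc : Commute z u) : ∃ g : G, g * z * g⁻¹ = el xI := by
  obtain ⟨g, hg⟩ := h.invol_conj hu
  have hz' : orderOf (g * z * g⁻¹) = 3 :=
    (orderOf_injective (MulAut.conj g).toMonoidHom (MulAut.conj g).injective z).trans hz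
  have hc' : Commute (g * z * g⁻¹) t := by
    rw [← hg]
    exact hc.map (MulAut.conj g).toMonoidHom
  obtain ⟨i, hi⟩ := (h.emb.mem _).1 (mem_centralizer_singleton_iff.2 hc'.eq)
  obtain ⟨j, hj⟩ := order_three_conj i
    (h.emb.inj (by rw [h.emb.pow, h.emb.one, hi, ← hz', pow_orderOf_eq_one]))
    (fun e => by rw [← hi, e, h.emb.one, orderOf_one] at hz'; norm_num at hz')
  refine ⟨el j * g, ?_⟩
  rw [← hj, h.emb.mul, h.emb.mul, h.emb.inv, hi]
  group

theorem MHyp.cent_even (h : MHyp t el) {z u : G} (hz : orderOf z = 3) (hu : orderOf u = 2)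
    (hc : Commute z u) : Nat.card (centralizer ({z} : Set G)) = 18 := by
  obtain ⟨g, hg⟩ := h.exists_conj_x hz hu hc
  rw [← h.cent_x, ← hg, LThreeThree.card_centralizer_conj]

/-- A Sylow three-subgroup is the only one centralising any of its elements of order three. -/
theorem MHyp.sylow_unique (h : MHyp t el) {z : G} (hz : orderOf z = 3) {P Q : Sylow 3 G}
    (hzP : z ∈ (P : Subgroup G)) (hzQ : z ∈ (Q : Subgroup G)) : P = Q := by
  haveI : Fact (Nat.Prime 3) := ⟨Nat.prime_three⟩
  haveI : Fact (Nat.Prime 2) := ⟨Nat.prime_two⟩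
  set C := centralizer ({z} : Set G) with hC
  have hP : (P : Subgroup G) ≤ C := fun p hp =>
    mem_centralizer_singleton_iff.2 (sylow_comm (h.card_sylow_three P) hp hzP)
  have hQ : (Q : Subgroup G) ≤ C := fun p hp =>
    mem_centralizer_singleton_iff.2 (sylow_comm (h.card_sylow_three Q) hp hzQ)
  have h2m : Nat.card C = 18 ∨ Nat.card C = 9 := by
    by_cases h2 : 2 ∣ Nat.card C
    · obtain ⟨u, hu⟩ := exists_prime_orderOf_dvd_card' (G := C) 2 h2
      exact Or.inl (h.cent_even hz (by rw [Subgroup.orderOf_coe, hu])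
        (show Commute z (u : G) from (mem_centralizer_singleton_iff.1 u.2).symm))
    · right
      have h9 : 9 ∣ Nat.card C := h.card_sylow_three P ▸ card_dvd_of_le hP
      exact Nat.dvd_antisymm ((Nat.prime_two.coprime_iff_not_dvd.2 h2).symm.pow_right 4 |>.dvd_of_dvd_mul_left
        (h.cent_three_dvd hz)) h9
  suffices hle : (Q : Subgroup G) ≤ (P : Subgroup G) from
    Sylow.ext (eq_of_le_of_card_ge hle (by rw [h.card_sylow_three, h.card_sylow_three])).symm
  intro q hq
  have hmul := ((P : Subgroup G).subgroupOf C).card_mul_index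
  rw [Nat.card_congr (subgroupOfEquivOfLe hP).toEquiv, h.card_sylow_three] at hmul
  rcases h2m with e | e <;> rw [e] at hmul
  · haveI := normal_of_index_eq_two (H := (P : Subgroup G).subgroupOf C) (by omega)
    have hq2 := pow_index_mem (H := (P : Subgroup G).subgroupOf C) ⟨q, hQ hq⟩
    rw [show ((P : Subgroup G).subgroupOf C).index = 2 by omega, mem_subgroupOf, SubmonoidClass.coe_pow] at hq2
    have h9 : q ^ 9 = 1 := by
      have := congrArg Subtype.val (pow_card_eq_one' (x := (⟨q, hq⟩ : (Q : Subgroup G))))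
      rwa [h.card_sylow_three, SubmonoidClass.coe_pow] at this
    have := (P : Subgroup G).pow_mem hq2 5
    rwa [← pow_mul, show 2 * 5 = 9 + 1 from rfl, pow_succ, h9, one_mul] at this
  · rw [eq_of_le_of_card_ge hP (by rw [e, h.card_sylow_three])]
    exact hQ hq

end CfsgLib.Char.MEleven
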