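import Cfsg.Agent.Lib.Char.MEleven.Local

/-!
# The Sylow three-subgroups and their normalisers
-/

set_option autoImplicit false
set_option linter.all false

open Subgroup

namespace CfsgLib.Char.MEleven

open CfsgLib.Char.GLThreeCent CfsgLib.Char.LThreeThree

variable {G : Type*} [Group G] [Finite G] {t : G} {el : Fin 48 → G}

theorem arith_three : ∀ n < 441, n ∣ 440 → n % 9 = 1 → n = 1 ∨ n = 10 ∨ n = 55 := by decide +kernel

theorem MHyp.x_order (h : MHyp t el) : orderOf (el xI) = 3 := by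
  haveI : Fact (Nat.Prime 3) := ⟨Nat.prime_three⟩
  exact orderOf_eq_prime (by rw [← h.emb.pow, xI_facts.1, h.emb.one])
    (fun e => xI_facts.2.1 (h.emb.eq_one_iff.1 e))

theorem MHyp.exists_sylow_x (h : MHyp t el) :
    ∃ P : Sylow 3 G, el xI ∈ (P : Subgroup G) ∧ Nat.card (normalizer ((P : Subgroup G) : Set G)) = 144 ∧
      centralizer ((P : Subgroup G) : Set G) = (P : Subgroup G) := by
  classical
  haveI : Fact (Nat.Prime 3) := ⟨Nat.prime_three⟩
  haveI : Fact (Nat.Prime 2) := ⟨Nat.prime_two⟩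
  obtain ⟨P, hP⟩ := (IsPGroup.of_card (n := 1) (by rw [Nat.card_zpowers, h.x_order, pow_one]) :
    IsPGroup 3 (zpowers (el xI))).exists_le_sylow
  have hxP : el xI ∈ (P : Subgroup G) := hP (mem_zpowers _)
  have hPc := h.card_sylow_three P
  have hcomm : ∀ {Q : Sylow 3 G} {a b : G}, a ∈ (Q : Subgroup G) → b ∈ (Q : Subgroup G) → a * b = b * a :=
    fun {Q a b} ha hb => sylow_comm (h.card_sylow_three Q) ha hb
  have hself : centralizer ((P : Subgroup G) : Set G) = (P : Subgroup G) := by
    refine (eq_of_le_of_card_ge (fun p hp => mem_centralizer_iff.2 fun q hq => hcomm hq hp) ?_).symm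
    have h18 : Nat.card (centralizer ((P : Subgroup G) : Set G)) ∣ 18 := by
      rw [← h.cent_x]
      exact card_dvd_of_le (centralizer_le (Set.singleton_subset_iff.2 hxP))
    have hodd : ¬ 2 ∣ Nat.card (centralizer ((P : Subgroup G) : Set G)) := by
      intro h2
      obtain ⟨u, hu⟩ := exists_prime_orderOf_dvd_card' (G := centralizer ((P : Subgroup G) : Set G)) 2 h2
      have h9 : 9 ∣ Nat.card (centralizer ({(u : G)} : Set G)) := hPc ▸ card_dvd_of_le fun p hp =>
        mem_centralizer_singleton_iff.2 (mem_centralizer_iff.1 u.2 p hp)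
      rw [h.card_invol (by rw [Subgroup.orderOf_coe, hu])] at h9
      norm_num at h9
    rw [hPc]
    exact Nat.le_of_dvd (by norm_num)
      ((Nat.prime_two.coprime_iff_not_dvd.2 hodd).symm.dvd_of_dvd_mul_left (show _ ∣ 2 * 9 from h18))
  -- the number of Sylow subgroups is one modulo nine
  haveI : Fintype (Sylow 3 G) := Fintype.ofFinite _
  haveI : Fintype (MulAction.orbitRel.Quotient (P : Subgroup G) (Sylow 3 G)) := Fintype.ofFinite _
  have hn : Nat.card (Sylow 3 G) % 9 = 1 := by
    rw [Nat.card_congr (MulAction.selfEquivSigmaOrbits (P : Subgroup G) (Sylow 3 G)), Nat.card_sigma,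
      ← Finset.add_sum_erase _ _ (Finset.mem_univ (⟦P⟧ : MulAction.orbitRel.Quotient (P : Subgroup G) (Sylow 3 G)))]
    have hst : ∀ Q : Sylow 3 G, Nat.card (MulAction.orbit (P : Subgroup G) Q) *
        Nat.card (MulAction.stabilizer (P : Subgroup G) Q) = 9 := by
      intro Q
      rw [← hPc, Nat.card_coe_set_eq, ← MulAction.index_stabilizer]
      exact index_mul_card _
    have hPout : (⟦P⟧ : MulAction.orbitRel.Quotient (P : Subgroup G) (Sylow 3 G)).out = P := by
      obtain ⟨p, hp⟩ := MulAction.orbitRel_apply.1 (Quotient.mk_out (s := MulAction.orbitRel (P : Subgroup G) (Sylow 3 G)) P)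
      rw [← hp]
      exact Sylow.smul_eq_iff_mem_normalizer.2 (le_normalizer p.2)
    have htriv : ∀ Q : Sylow 3 G, Q ≠ P → Nat.card (MulAction.orbit (P : Subgroup G) Q) = 9 := by
      intro Q hQ
      have hbot : MulAction.stabilizer (P : Subgroup G) Q = ⊥ := by
        by_contra hne
        have hd : 3 ∣ Nat.card (MulAction.stabilizer (P : Subgroup G) Q) := by
          obtain ⟨k, hk⟩ := IsPGroup.iff_card.1 (P.2.to_subgroup (MulAction.stabilizer (P : Subgroup G) Q))
          have hk0 : k ≠ 0 := fun e => hne (card_eq_one.1 (by rw [hk, e, pow_zero]))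
          exact hk ▸ dvd_pow_self 3 hk0
        obtain ⟨z, hz⟩ := exists_prime_orderOf_dvd_card' (G := MulAction.stabilizer (P : Subgroup G) Q) 3 hd
        rw [← Subgroup.orderOf_coe, ← Subgroup.orderOf_coe] at hz
        have hzQ : ((z : (P : Subgroup G)) : G) ∈ normalizer ((Q : Subgroup G) : Set G) :=
          Sylow.smul_eq_iff_mem_normalizer.1 (MulAction.mem_stabilizer_iff.1 z.2)
        have hzQ' : ((z : (P : Subgroup G)) : G) ∈ (Q : Subgroup G) :=
          ((le_inf le_rfl (zpowers_le.2 hzQ)).trans ((IsPGroup.of_card (n := 1)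
            (by rw [Nat.card_zpowers, hz, pow_one]) : IsPGroup 3 _).inf_normalizer_sylow Q).le).trans
            inf_le_right (mem_zpowers _)
        exact hQ (h.sylow_unique hz hzQ' (z : (P : Subgroup G)).2)
      have := hst Q
      rwa [hbot, card_bot, mul_one] at this
    have h1 : Nat.card (MulAction.orbit (P : Subgroup G) P) = 1 := by
      have hs : MulAction.stabilizer (P : Subgroup G) P = ⊤ := eq_top_iff.2 fun p _ =>
        MulAction.mem_stabilizer_iff.2 (Sylow.smul_eq_iff_mem_normalizer.2 (le_normalizer p.2))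
      have := hst P
      rw [hs, card_top, hPc] at this
      omega
    obtain ⟨k, hk⟩ := Finset.dvd_sum (a := 9) (f := fun ω => Nat.card (MulAction.orbit (P : Subgroup G) ω.out))
      (s := Finset.univ.erase (⟦P⟧ : MulAction.orbitRel.Quotient (P : Subgroup G) (Sylow 3 G))) fun ω hω => by
        rw [htriv _ fun e => (Finset.mem_erase.1 hω).1 ((Quotient.out_eq ω).symm.trans (congrArg _ e))]
    rw [hPout, h1, hk]
    omega
  have h18 : 18 ∣ Nat.card (normalizer ((P : Subgroup G) : Set G)) := by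
    rw [← h.cent_x]
    refine card_dvd_of_le fun c hc => Sylow.smul_eq_iff_mem_normalizer.1 ?_
    refine h.sylow_unique h.x_order ⟨el xI, hxP, ?_⟩ hxP
    show c * el xI * c⁻¹ = el xI
    rw [mem_centralizer_singleton_iff.1 hc, mul_inv_cancel_right]
  obtain ⟨m, hm⟩ := h18
  have hidx : Nat.card (Sylow 3 G) * (18 * m) = 7920 := by
    rw [P.card_eq_index_normalizer, ← hm, ← h.card]; exact index_mul_card _
  have hd : Nat.card (Sylow 3 G) ∣ 440 := ⟨m, by nlinarith⟩
  refine ⟨P, hxP, ?_, hself⟩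
  rw [hm]
  rcases arith_three _ (Nat.lt_succ_of_le (Nat.le_of_dvd (by norm_num) hd)) hd hn with e | e | e <;>
    rw [e] at hidx
  · exfalso
    rw [P.card_eq_index_normalizer, index_eq_one] at e
    haveI : (P : Subgroup G).Normal := normalizer_eq_top_iff.1 e
    exact h.not_top (S := (P : Subgroup G)) (by omega) (by omega)
  · exfalso
    -- an element of order eleven would centralise `P`
    haveI : Fact (Nat.Prime 11) := ⟨by norm_num⟩
    have h11 : 11 ∣ Nat.card (normalizer ((P : Subgroup G) : Set G)) := by rw [hm]; omega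
    obtain ⟨w, hw⟩ := exists_prime_orderOf_dvd_card' (G := normalizer ((P : Subgroup G) : Set G)) 11 h11
    have hw' : orderOf (w : G) = 11 := by rw [Subgroup.orderOf_coe, hw]
    let f : Equiv.Perm ((P : Subgroup G) : Type _) :=
      (normalizerMonoidHom (P : Subgroup G) w).toEquiv
    have hwC : (w : G) ∈ centralizer ((P : Subgroup G) : Set G) := by
      have h1 : orderOf (normalizerMonoidHom (P : Subgroup G) w) ∣ 11 := hw ▸ orderOf_map_dvd _ w
      rcases (Nat.dvd_prime (by norm_num)).1 h1 with e1 | e1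
      · have hk : w ∈ (normalizerMonoidHom (P : Subgroup G)).ker := MonoidHom.mem_ker.2 (orderOf_eq_one_iff.1 e1)
        rwa [normalizerMonoidHom_ker] at hk
      · exfalso
        have h2 : orderOf (MulAut.toPerm _ (normalizerMonoidHom (P : Subgroup G) w)) = 11 := by
          rw [orderOf_injective (MulAut.toPerm _) (fun a b e => MulEquiv.ext (Equiv.ext_iff.1 e))]
          exact e1
        have h3 := orderOf_dvd_natCard (MulAut.toPerm _ (normalizerMonoidHom (P : Subgroup G) w))
        rw [h2, Nat.card_perm, hPc] at h3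
        revert h3; decide +kernel
    rw [hself] at hwC
    have := (P : Subgroup G).orderOf_dvd_natCard hwC
    rw [hw', hPc] at this
    norm_num at this
  · omega

/-- All elements of order three in `P` are conjugate in the normaliser; some involution inverts `P`. -/
theorem MHyp.exists_inverter (h : MHyp t el) :
    ∃ P : Sylow 3 G, ∃ v : G, ∃ elv : Fin 48 → G, orderOf v = 2 ∧ MHyp v elv ∧ el xI ∈ (P : Subgroup G) ∧
      centralizer ((P : Subgroup G) : Set G) = (P : Subgroup G) ∧
      (∀ p ∈ (P : Subgroup G), v * p * v = p⁻¹) ∧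
      (∀ i, inR i → elv i ∈ normalizer ((P : Subgroup G) : Set G)) ∧
      (∀ p ∈ (P : Subgroup G), p ^ 3 = 1) ∧
      ∀ p ∈ (P : Subgroup G), ∀ q ∈ (P : Subgroup G), p ≠ 1 → q ≠ 1 →
        ∃ i, inR i ∧ elv i * p * (elv i)⁻¹ = q := by
  classical
  haveI : Fact (Nat.Prime 3) := ⟨Nat.prime_three⟩
  haveI : Fact (Nat.Prime 2) := ⟨Nat.prime_two⟩
  obtain ⟨P, hxP, hN, hself⟩ := h.exists_sylow_x
  have hPc := h.card_sylow_three P
  set N := normalizer ((P : Subgroup G) : Set G) with hNdef
  obtain ⟨U⟩ : Nonempty (Sylow 2 N) := inferInstance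
  have hU : Nat.card (U : Subgroup N) = 2 ^ 4 := by
    rw [U.card_eq_multiplicity, hN, show (144 : ℕ) = 2 ^ 4 * 9 by norm_num,
      Nat.factorization_mul (by norm_num) (by norm_num), Nat.prime_two.factorization_pow]
    simp [Nat.factorization_eq_zero_of_not_dvd (show ¬ 2 ∣ 9 by norm_num)]
  set T := (U : Subgroup N).map N.subtype with hT
  have hTc : Nat.card T = 2 ^ 4 := by
    rw [← hU]; exact Nat.card_congr (equivMapOfInjective _ _ (subtype_injective _)).toEquiv.symm
  obtain ⟨S, hS⟩ := h.emb.exists_sylow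
  obtain ⟨g, hg⟩ := Invol.exists_conj_le_sylow (Q := T) (IsPGroup.of_card hTc) S
  set v := g⁻¹ * t * g with hv
  have htS : t ∈ (S : Subgroup G) := hS ▸ ⟨tI, inP_facts.2.1, h.emb.map_t⟩
  let elv : Fin 48 → G := fun i => g⁻¹ * el i * g
  have hvo : orderOf v = 2 := by
    rw [hv, show g⁻¹ * t * g = g⁻¹ * t * g⁻¹⁻¹ by rw [inv_inv]]
    exact (orderOf_injective (MulAut.conj g⁻¹).toMonoidHom (MulAut.conj g⁻¹).injective t).trans
      (orderOf_eq_prime (by rw [pow_two]; exact h.emb.t_invol.1) h.emb.t_invol.2)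
  have hTeq : ∀ i, inP i → elv i ∈ T := by
    let f : T → h.emb.sub := fun w => ⟨g * (w : G) * g⁻¹, hS ▸ hg _ w.2⟩
    have hf : Function.Bijective f := (Nat.bijective_iff_injective_and_card f).2
      ⟨fun a b e => Subtype.ext (by simpa [f] using e), by rw [hTc, h.emb.card_sub]; norm_num⟩
    intro i hi
    obtain ⟨⟨w, hw⟩, hwe⟩ := hf.2 ⟨el i, i, hi, rfl⟩
    have : el i = g * w * g⁻¹ := (congrArg Subtype.val hwe).symm
    show g⁻¹ * el i * g ∈ T
    rw [this, show g⁻¹ * (g * w * g⁻¹) * g = w by group]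
    exact hw
  have hTN : T ≤ N := map_subtype_le _
  have hvmem : v ∈ T := by
    have := hTeq tI inP_facts.2.1
    rwa [show elv tI = v by simp [elv, hv, h.emb.map_t]] at this
  have hM : MHyp v elv := by
    refine ⟨⟨fun i j e => h.emb.inj (mul_left_cancel (mul_right_cancel e)), fun i j => ?_, fun x => ?_, ?_⟩,
      h.card, h.no2⟩
    · show g⁻¹ * el (mulI i j) * g = g⁻¹ * el i * g * (g⁻¹ * el j * g)
      rw [h.emb.mul]; group
    · rw [mem_centralizer_singleton_iff, hv]
      constructor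
      · intro hx
        obtain ⟨i, hi⟩ := (h.emb.mem (g * x * g⁻¹)).1 (mem_centralizer_singleton_iff.2 (by
          calc g * x * g⁻¹ * t = g * (x * (g⁻¹ * t * g)) * g⁻¹ := by group
            _ = g * (g⁻¹ * t * g * x) * g⁻¹ := by rw [hx]
            _ = t * (g * x * g⁻¹) := by group))
        exact ⟨i, show g⁻¹ * el i * g = x by rw [hi]; group⟩
      · rintro ⟨i, rfl⟩
        calc g⁻¹ * el i * g * (g⁻¹ * t * g) = g⁻¹ * (el i * t) * g := by group
          _ = g⁻¹ * (t * el i) * g := by rw [h.emb.commute_t]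
          _ = g⁻¹ * t * g * (g⁻¹ * el i * g) := by group
    · show g⁻¹ * el tI * g = v
      rw [h.emb.map_t]
  have hconjP : ∀ w ∈ N, ∀ p ∈ (P : Subgroup G), w * p * w⁻¹ ∈ (P : Subgroup G) := fun w hw p hp =>
    (mem_normalizer_iff.1 hw p).1 hp
  have hvv : v⁻¹ = v := inv_eq_of_mul_eq_one_left hM.emb.t_invol.1
  have hcommP : ∀ a ∈ (P : Subgroup G), ∀ b ∈ (P : Subgroup G), a * b = b * a :=
    fun a ha b hb => sylow_comm hPc ha hb
  -- `v` fixes no element of `P`
  have hfree : ∀ p ∈ (P : Subgroup G), v * p = p * v → p = 1 := by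
    intro p hp hpv
    by_contra hp1
    have hD : (P : Subgroup G) ⊓ centralizer ({v} : Set G) ≠ ⊥ := fun e => hp1 (by
      have : p ∈ (P : Subgroup G) ⊓ centralizer ({v} : Set G) := ⟨hp, mem_centralizer_singleton_iff.2 hpv.symm⟩
      rwa [e, mem_bot] at this)
    set D := (P : Subgroup G) ⊓ centralizer ({v} : Set G) with hDdef
    have hD3 : Nat.card D = 3 := by
      obtain ⟨j, hj, hj'⟩ := (Nat.dvd_prime_pow Nat.prime_three).1
        (show Nat.card D ∣ 3 ^ 2 from (card_dvd_of_le inf_le_left).trans (by rw [hPc]; norm_num))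
      interval_cases j
      · exact absurd (card_eq_one.1 hj') hD
      · exact hj'
      · exfalso
        have e9 : D = (P : Subgroup G) := eq_of_le_of_card_ge inf_le_left (by rw [hj', hPc]; norm_num)
        have hvC : v ∈ centralizer ((P : Subgroup G) : Set G) := mem_centralizer_iff.2 fun q hq =>
          mem_centralizer_singleton_iff.1 (mem_inf.1 (e9.symm.le hq)).2
        rw [hself] at hvC
        have := (P : Subgroup G).orderOf_dvd_natCard hvC
        rw [hvo, hPc] at this
        norm_num at this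
    obtain ⟨z, hz⟩ := exists_prime_orderOf_dvd_card' (G := D) 3 (by rw [hD3])
    rw [← Subgroup.orderOf_coe] at hz
    have hzD : zpowers (z : G) = D :=
      eq_of_le_of_card_ge (zpowers_le.2 z.2) (by rw [hD3, Nat.card_zpowers, hz])
    -- half of `T` centralises `z`
    have hTD : ∀ w ∈ T, w * z * w⁻¹ = z ∨ w * z * w⁻¹ = (z : G)⁻¹ := by
      intro w hw
      obtain ⟨i, hi⟩ : ∃ i, inP i ∧ elv i = w := by
        obtain ⟨j, hj, hje⟩ : g * w * g⁻¹ ∈ h.emb.sub := hS ▸ hg w hw
        exact ⟨j, hj, by show g⁻¹ * el j * g = w; rw [hje]; group⟩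
      have hwv : Commute w v := by
        rw [← hi.2]; exact hM.emb.commute_t i
      have hzv : Commute (z : G) v := mem_centralizer_singleton_iff.1 (mem_inf.1 z.2).2
      have h1 : w * z * w⁻¹ ∈ D := by
        refine ⟨hconjP w (hTN hw) _ (mem_inf.1 z.2).1, mem_centralizer_singleton_iff.2 ?_⟩
        exact ((hwv.mul_left hzv).mul_left hwv.inv_left).eq
      replace h1 : w * z * w⁻¹ ∈ zpowers (z : G) := hzD.ge h1
      obtain ⟨k, hk⟩ := (isOfFinOrder_of_finite (z : G)).mem_powers_iff_mem_zpowers.2 h1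
      have hk' : (z : G) ^ k = w * z * w⁻¹ := hk
      rcases (show k % 3 = 0 ∨ k % 3 = 1 ∨ k % 3 = 2 by omega) with e | e | e <;>
        rw [← pow_mod_orderOf, hz, e] at hk'
      · rw [pow_zero, eq_comm, conj_eq_one_iff] at hk'; rw [hk', orderOf_one] at hz; norm_num at hz
      · left; rw [← hk', pow_one]
      · right; rw [← hk']; refine eq_inv_of_mul_eq_one_left ?_
        rw [← pow_succ, show 2 + 1 = orderOf (z : G) from hz.symm, pow_orderOf_eq_one]
    set K := T ⊓ centralizer ({(z : G)} : Set G) with hK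
    have hK8 : 8 ≤ Nat.card K := by
      let f : T → Bool := fun w => decide ((w : G) * z * (w : G)⁻¹ = z)
      by_contra hlt
      have h2 : Nat.card T ≤ Nat.card (K ⊕ K) := by
        by_cases hall : ∀ w ∈ T, w * z * w⁻¹ = z
        · refine le_of_le_of_eq (card_le_of_le (K := K) fun w hw => ⟨hw, mem_centralizer_singleton_iff.2
            (mul_inv_eq_iff_eq_mul.1 (hall w hw))⟩) rfl |>.trans ?_
          rw [Nat.card_sum]; omega
        push Not at hall
        obtain ⟨w₀, hw₀, hw₀z⟩ := hall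
        have hinvz : w₀ * z * w₀⁻¹ = (z : G)⁻¹ := (hTD w₀ hw₀).resolve_left hw₀z
        refine Nat.card_le_card_of_injective (fun w : T => if hw : (w : G) * z * (w : G)⁻¹ = z then
          Sum.inl ⟨w, w.2, mem_centralizer_singleton_iff.2 (mul_inv_eq_iff_eq_mul.1 hw)⟩
          else Sum.inr ⟨w₀ * w, mul_mem hw₀ w.2, mem_centralizer_singleton_iff.2 (mul_inv_eq_iff_eq_mul.1 (by
            rw [show w₀ * w * z * (w₀ * (w : G))⁻¹ = w₀ * ((w : G) * z * (w : G)⁻¹) * w₀⁻¹ by group,
              (hTD w w.2).resolve_left hw, show w₀ * (z : G)⁻¹ * w₀⁻¹ = (w₀ * z * w₀⁻¹)⁻¹ by group, hinvz,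
              inv_inv]))⟩) ?_
        intro a b e
        by_cases ha : (a : G) * z * (a : G)⁻¹ = z <;> by_cases hb : (b : G) * z * (b : G)⁻¹ = z <;>
          simp [ha, hb] at e
        · exact Subtype.ext (Subtype.ext_iff.1 e :)
        · exact Subtype.ext (mul_left_cancel (Subtype.ext_iff.1 e :))
      rw [Nat.card_sum, hTc] at h2
      omega
    have hKd : Nat.card K ∣ 2 ^ 4 := hTc ▸ card_dvd_of_le inf_le_left
    have h18 : Nat.card (centralizer ({(z : G)} : Set G)) = 18 :=
      h.cent_even hz hvo (mem_centralizer_singleton_iff.1 (mem_inf.1 z.2).2)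
    have hK18 : Nat.card K ∣ 2 * 9 := by
      rw [show 2 * 9 = 18 from rfl, ← h18]; exact card_dvd_of_le inf_le_right
    have := Nat.le_of_dvd (by norm_num) (Nat.dvd_gcd hKd hK18)
    rw [show Nat.gcd (2 ^ 4) (2 * 9) = 2 from rfl] at this
    omega
  have hinvert : ∀ p ∈ (P : Subgroup G), v * p * v = p⁻¹ := by
    intro p hp
    have hc := hconjP v (hTN hvmem) p hp
    rw [hvv] at hc
    refine eq_inv_of_mul_eq_one_left (hfree _ (mul_mem hc hp) ?_)
    calc v * (v * p * v * p) = (v * v) * p * (v * p) := by group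
      _ = p * v * p := by rw [hM.emb.t_invol.1]; group
      _ = p * (v * p * v) * v := by
        rw [show p * (v * p * v) * v = p * v * p * (v * v) by group, hM.emb.t_invol.1, mul_one]
      _ = v * p * v * p * v := by rw [hcommP _ hp _ hc]
  have hRN : ∀ i, inR i → elv i ∈ N := fun i hi => hTN (hTeq i (inR_inP i hi))
  -- `R` is regular
  let R : Finset (Fin 48) := Finset.univ.filter inR
  have hreg : ∀ p ∈ (P : Subgroup G), p ≠ 1 → ∀ q ∈ (P : Subgroup G), q ≠ 1 →
      ∃ i, inR i ∧ elv i * p * (elv i)⁻¹ = q := by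
    intro p hp hp1 q hq hq1
    let f : {i : Fin 48 // inR i} → {w : (P : Subgroup G) // w ≠ 1} := fun i =>
      ⟨⟨elv i * p * (elv i)⁻¹, hconjP _ (hRN i i.2) p hp⟩, fun e => hp1 (conj_eq_one_iff.1 (congrArg Subtype.val e))⟩
    have hinj : Function.Injective f := by
      rintro ⟨i, hi⟩ ⟨j, hj⟩ e
      have e' : elv i * p * (elv i)⁻¹ = elv j * p * (elv j)⁻¹ :=
        congrArg (fun w : {w : (P : Subgroup G) // w ≠ 1} => ((w : (P : Subgroup G)) : G)) e
      refine Subtype.ext ?_
      by_contra hne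
      set k := mulI (invI j) i with hk
      have hkR : inR k := inR_mul _ _ (inR_inv _ hj) hi
      have hkc : elv k * p = p * elv k := by
        rw [hk, hM.emb.mul, hM.emb.inv]
        calc (elv j)⁻¹ * elv i * p = (elv j)⁻¹ * (elv i * p * (elv i)⁻¹) * elv i := by group
          _ = (elv j)⁻¹ * (elv j * p * (elv j)⁻¹) * elv i := by rw [e']
          _ = p * ((elv j)⁻¹ * elv i) := by group
      obtain ⟨m, hm⟩ := inR_t k hkR (fun e1 => hne (hM.emb.inj (by
        have h1 : elv k = 1 := by rw [e1, hM.emb.one]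
        rw [hk, hM.emb.mul, hM.emb.inv, inv_mul_eq_one] at h1
        exact h1.symm)))
      refine hp1 (hfree p hp ?_)
      have hvk : v = elv k ^ m.val := by rw [← hM.emb.pow, hm, hM.emb.map_t]
      rw [hvk]
      exact ((show Commute (elv k) p from hkc).pow_left _).eq
    haveI : Fintype ((P : Subgroup G) : Type _) := Fintype.ofFinite _
    obtain ⟨-, hs⟩ := (Fintype.bijective_iff_injective_and_card f).2 ⟨hinj, by
      rw [card_inR, Fintype.card_subtype_compl, Fintype.card_subtype_eq, ← Nat.card_eq_fintype_card, hPc]⟩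
    obtain ⟨⟨i, hi⟩, he⟩ := hs ⟨⟨q, hq⟩, fun e => hq1 (congrArg Subtype.val e)⟩
    exact ⟨i, hi, congrArg (fun w : {w : (P : Subgroup G) // w ≠ 1} => ((w : (P : Subgroup G)) : G)) he⟩
  refine ⟨P, v, elv, hvo, hM, hxP, hself, hinvert, hRN, fun p hp => ?_, fun p hp q hq hp1 hq1 => hreg p hp hp1 q hq hq1⟩
  by_cases hp1 : p = 1
  · rw [hp1, one_pow]
  obtain ⟨i, -, hi⟩ := hreg (el xI) hxP (fun e => by have := h.x_order; rw [e, orderOf_one] at this; norm_num at this) p hp hp1
  rw [← hi, conj_pow, show el xI ^ 3 = 1 by rw [← h.x_order, pow_orderOf_eq_one]]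
  group

theorem MHyp.cent_three (h : MHyp t el) {z : G} (hz : orderOf z = 3) :
    Nat.card (centralizer ({z} : Set G)) = 18 := by
  haveI : Fact (Nat.Prime 3) := ⟨Nat.prime_three⟩
  obtain ⟨P, v, elv, hvo, hM, hxP, hself, hinv, hRN, hexp, htr⟩ := h.exists_inverter
  obtain ⟨g, hg⟩ := Invol.exists_conj_le_sylow (Q := zpowers z) (IsPGroup.of_card (n := 1)
    (by rw [Nat.card_zpowers, hz, pow_one])) P
  obtain ⟨i, -, hi⟩ := htr (el xI) hxP (g * z * g⁻¹) (hg z (mem_zpowers z))
    (fun e => by have := h.x_order; rw [e, orderOf_one] at this; norm_num at this)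
    (fun e => by rw [conj_eq_one_iff] at e; rw [e, orderOf_one] at hz; norm_num at hz)
  rw [← LThreeThree.card_centralizer_conj g z, ← hi, LThreeThree.card_centralizer_conj, h.cent_x]

/-- An involution inverting a Sylow three-subgroup has its quaternion group in the normaliser. -/
theorem MHyp.inverter_facts (h : MHyp t el) {P : Sylow 3 G} {u : G} {elu : Fin 48 → G} (hu : MHyp u elu)
    (hinv : ∀ p ∈ (P : Subgroup G), u * p * u = p⁻¹) :
    (∀ i, inR i → elu i ∈ normalizer ((P : Subgroup G) : Set G)) ∧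
    centralizer ((P : Subgroup G) : Set G) = (P : Subgroup G) ∧
    (∀ p ∈ (P : Subgroup G), p ^ 3 = 1) ∧
    ∀ p ∈ (P : Subgroup G), ∀ q ∈ (P : Subgroup G), p ≠ 1 → q ≠ 1 →
        ∃ i, inR i ∧ elu i * p * (elu i)⁻¹ = q := by
  classical
  haveI : Fact (Nat.Prime 3) := ⟨Nat.prime_three⟩
  obtain ⟨P₀, v, elv, hvo, hM, -, hself, hinv₀, hRN, hexp, htr⟩ := h.exists_inverter
  obtain ⟨g, hg⟩ := MulAction.exists_smul_eq G P₀ P
  have hgP : ∀ p, p ∈ (P : Subgroup G) ↔ g⁻¹ * p * g ∈ (P₀ : Subgroup G) := by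
    intro p
    rw [← hg]
    constructor
    · rintro ⟨q, hq, rfl⟩
      show g⁻¹ * (g * q * g⁻¹) * g ∈ _
      rwa [show g⁻¹ * (g * q * g⁻¹) * g = q by group]
    · intro hp
      exact ⟨_, hp, show g * (g⁻¹ * p * g) * g⁻¹ = p by group⟩
  have hself' : centralizer ((P : Subgroup G) : Set G) = (P : Subgroup G) := by
    refine le_antisymm (fun c hc => (hgP c).2 (hself.le (mem_centralizer_iff.2 fun q hq => ?_))) fun p hp =>
      mem_centralizer_iff.2 fun q hq => sylow_comm (h.card_sylow_three P) hq hp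
    have := mem_centralizer_iff.1 hc (g * q * g⁻¹) ((hgP _).2 (by rwa [show g⁻¹ * (g * q * g⁻¹) * g = q by group]))
    calc q * (g⁻¹ * c * g) = g⁻¹ * (g * q * g⁻¹ * c) * g := by group
      _ = g⁻¹ * (c * (g * q * g⁻¹)) * g := by rw [this]
      _ = g⁻¹ * c * g * q := by group
  have hexp' : ∀ p ∈ (P : Subgroup G), p ^ 3 = 1 := fun p hp => by
    have := hexp _ ((hgP p).1 hp)
    rwa [show g⁻¹ * p * g = g⁻¹ * p * g⁻¹⁻¹ by rw [inv_inv], conj_pow, conj_eq_one_iff] at this
  set v' := g * v * g⁻¹ with hv'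
  have hvv : v * v = 1 := hM.emb.t_invol.1
  have hinv' : ∀ p ∈ (P : Subgroup G), v' * p * v' = p⁻¹ := fun p hp => by
    rw [hv', show g * v * g⁻¹ * p * (g * v * g⁻¹) = g * (v * (g⁻¹ * p * g) * v) * g⁻¹ by group,
      hinv₀ _ ((hgP p).1 hp)]
    group
  have huu := hu.emb.t_invol.1
  have hd : v' * u ∈ (P : Subgroup G) := by
    refine hself'.le (mem_centralizer_iff.2 fun q hq => ?_)
    have h1 : u * q * u = q⁻¹ := hinv q hq
    have h2 : v' * q⁻¹ * v' = q := by rw [hinv' _ (inv_mem hq), inv_inv]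
    have hv'2 : v' * v' = 1 := by rw [hv', show g * v * g⁻¹ * (g * v * g⁻¹) = g * (v * v) * g⁻¹ by group, hvv]; group
    calc q * (v' * u) = v' * (u * q * u) * (v' * v') * u := by rw [h1, hv'2, ← mul_assoc]; nth_rewrite 1 [← h2]; rw [show v' * q⁻¹ * v' * v' = v' * q⁻¹ * (v' * v') by group, hv'2]
      _ = v' * u * q * (u * (v' * v') * u) := by group
      _ = v' * u * q := by rw [hv'2, mul_one, huu, mul_one]
  set d := v' * u with hd'
  set k := d * g with hk
  have hku : u = k * v * k⁻¹ := by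
    have hv'2 : v' * v' = 1 := by rw [hv', show g * v * g⁻¹ * (g * v * g⁻¹) = g * (v * v) * g⁻¹ by group, hvv]; group
    have h1 : v' * d * v' = d⁻¹ := hinv' d hd
    have h3 : d ^ 3 = 1 := hexp' d hd
    have h2 : d * v' * d⁻¹ = v' * (d⁻¹ * d⁻¹) := by
      calc d * v' * d⁻¹ = (v' * v') * d * v' * d⁻¹ := by rw [hv'2, one_mul]
        _ = v' * (v' * d * v') * d⁻¹ := by group
        _ = v' * (d⁻¹ * d⁻¹) := by rw [h1, mul_assoc]
    rw [hk, show d * g * v * (d * g)⁻¹ = d * v' * d⁻¹ by rw [hv']; group, h2,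
      show d⁻¹ * d⁻¹ = d by
        rw [← mul_inv_rev, ← pow_two]
        exact inv_eq_of_mul_eq_one_left (by rw [← pow_succ', h3]),
      hd', ← mul_assoc, hv'2, one_mul]
  have hkP : ∀ p, p ∈ (P : Subgroup G) → k⁻¹ * p * k ∈ (P₀ : Subgroup G) := fun p hp => by
    rw [hk, show (d * g)⁻¹ * p * (d * g) = g⁻¹ * (d⁻¹ * p * d) * g by group]
    exact (hgP _).1 (mul_mem (mul_mem (inv_mem hd) hp) hd)
  have hkN : ∀ n ∈ normalizer ((P₀ : Subgroup G) : Set G), k * n * k⁻¹ ∈ normalizer ((P : Subgroup G) : Set G) := by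
    intro n hn
    have hk' : k • P₀ = P := by
      rw [hk, mul_smul, hg]
      exact Sylow.smul_eq_iff_mem_normalizer.2 (le_normalizer hd)
    refine Sylow.smul_eq_iff_mem_normalizer.1 ?_
    rw [mul_smul, mul_smul, ← hk', inv_smul_smul, Sylow.smul_eq_iff_mem_normalizer.2 hn]
  -- the two coded copies of the quaternion group correspond
  have hcor : ∀ i, inR i → ∃ j, inR j ∧ elu i = k * elv j * k⁻¹ := by
    intro i hi
    obtain ⟨j, hj⟩ := (hM.emb.mem (k⁻¹ * elu i * k)).1 (mem_centralizer_singleton_iff.2 (by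
      have := hu.emb.commute_t i
      rw [hku] at this
      calc k⁻¹ * elu i * k * v = k⁻¹ * (elu i * (k * v * k⁻¹)) * k := by group
        _ = k⁻¹ * (k * v * k⁻¹ * elu i) * k := by rw [this]
        _ = v * (k⁻¹ * elu i * k) := by group))
    refine ⟨j, ?_, by rw [hj]; group⟩
    rcases hi with e | e | e
    · exact Or.inl (hM.emb.inj (by rw [hj, e, hu.emb.one, hM.emb.one]; group))
    · exact Or.inr (Or.inl (hM.emb.inj (by rw [hj, e, hu.emb.map_t, hM.emb.map_t, hku]; group)))
    · refine Or.inr (Or.inr (hM.emb.inj ?_))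
      rw [hM.emb.mul, hj, hM.emb.map_t, show k⁻¹ * elu i * k * (k⁻¹ * elu i * k) = k⁻¹ * (elu i * elu i) * k by group,
        ← hu.emb.mul, e, hu.emb.map_t, hku]
      group
  refine ⟨fun i hi => ?_, hself', hexp', fun p hp q hq hp1 hq1 => ?_⟩
  · obtain ⟨j, hj, he⟩ := hcor i hi
    rw [he]; exact hkN _ (hRN j hj)
  · obtain ⟨j, hj, he⟩ := htr _ (hkP p hp) _ (hkP q hq)
      (fun e => hp1 (by have := congrArg (fun w => k * w * k⁻¹) e; simpa [mul_assoc] using this))
      (fun e => hq1 (by have := congrArg (fun w => k * w * k⁻¹) e; simpa [mul_assoc] using this))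
    obtain ⟨i, hi⟩ := (hu.emb.mem (k * elv j * k⁻¹)).1 (mem_centralizer_singleton_iff.2 (by
      have := hM.emb.commute_t j
      rw [hku]
      calc k * elv j * k⁻¹ * (k * v * k⁻¹) = k * (elv j * v) * k⁻¹ := by group
        _ = k * (v * elv j) * k⁻¹ := by rw [this]
        _ = k * v * k⁻¹ * (k * elv j * k⁻¹) := by group))
    refine ⟨i, ?_, ?_⟩
    · rcases hj with e | e | e
      · exact Or.inl (hu.emb.inj (by rw [hi, e, hu.emb.one, hM.emb.one]; group))
      · exact Or.inr (Or.inl (hu.emb.inj (by rw [hi, e, hu.emb.map_t, hM.emb.map_t, hku])))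
      · refine Or.inr (Or.inr (hu.emb.inj ?_))
        rw [hu.emb.mul, hi, hu.emb.map_t, show k * elv j * k⁻¹ * (k * elv j * k⁻¹) = k * (elv j * elv j) * k⁻¹ by group,
          ← hM.emb.mul, e, hM.emb.map_t, hku]
    · rw [hi, show k * elv j * k⁻¹ * p * (k * elv j * k⁻¹)⁻¹ = k * (elv j * (k⁻¹ * p * k) * (elv j)⁻¹) * k⁻¹ by group,
        he]
      group

end CfsgLib.Char.MEleven
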